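import Cfsg.Agent.Lib.Involutions.StronglyEmbedded
import Cfsg.Agent.Lib.Components.GenFitting
import Cfsg.Agent.S0205
import Cfsg.Prelude.Def_Involutions

/-!
# From tightly embedded subgroups to strongly embedded subgroups of `F*(G)`

If `F*(G)` is non-abelian simple and the conclusion of the tightly embedded criterion holds for
`H` (either `H` is normal, or `N(H) ∩ K` is strongly embedded in the normal closure `K` of `H`),
then `H` is normal or `F*(G)` has a strongly embedded subgroup.
-/

set_option autoImplicit false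

namespace Cfsg.Agent.Lib.Crit59.Tightly

open Cfsg.Agent.Lib.Involutions
open Cfsg.Agent.Lib.Components

variable {G : Type*} [Group G] [Finite G]

theorem centralizer_eq_bot (hF : IsSimpleGroup ↥(Cfsg.generalizedFittingSubgroup G))
    (hF' : ¬ IsMulCommutative ↥(Cfsg.generalizedFittingSubgroup G)) :
    Subgroup.centralizer (Cfsg.generalizedFittingSubgroup G : Set G) = ⊥ := by
  set F := Cfsg.generalizedFittingSubgroup G with hFd
  have hZ : Subgroup.center ↥F = ⊥ := by
    refine (Subgroup.Normal.eq_bot_or_eq_top inferInstance).resolve_right fun h => hF' ?_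
    exact ⟨⟨fun a b => (Subgroup.mem_center_iff.1 (h ▸ Subgroup.mem_top b) a)⟩⟩
  rw [eq_bot_iff]
  intro c hc
  have hcF : c ∈ F := GenFitting.centralizer_le hc
  have hcc : (⟨c, hcF⟩ : F) ∈ Subgroup.center ↥F :=
    Subgroup.mem_center_iff.2 fun y => Subtype.ext (Subgroup.mem_centralizer_iff.1 hc y y.2)
  rw [hZ, Subgroup.mem_bot] at hcc
  exact Subgroup.mem_bot.2 (congrArg Subtype.val hcc)

theorem even_card_genFitting (hF : IsSimpleGroup ↥(Cfsg.generalizedFittingSubgroup G))
    (hF' : ¬ IsMulCommutative ↥(Cfsg.generalizedFittingSubgroup G)) :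
    Even (Nat.card ↥(Cfsg.generalizedFittingSubgroup G)) := by
  by_contra h
  haveI := Cfsg.Agent.S0205.result (Nat.not_even_iff_odd.1 h)
  exact hF' ⟨⟨(IsSimpleGroup.comm_iff_isSolvable).2 inferInstance⟩⟩

/-- A normal subgroup of even order meets the conclusion of the criterion in a strongly embedded
subgroup, unless it lies in the strongly embedded subgroup. -/
theorem inf_normal {K : Subgroup G} [K.Normal] {N : Subgroup G}
    (hSE : Cfsg.IsStronglyEmbedded (N.subgroupOf K)) {F : Subgroup G} [F.Normal] (hFK : F ≤ K)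
    (hev : Even (Nat.card ↥F)) (hnle : ¬ F ≤ N) :
    Cfsg.IsStronglyEmbedded (N.subgroupOf F) := by
  haveI : Fintype F := Fintype.ofFinite _
  haveI : Fact (Nat.Prime 2) := ⟨Nat.prime_two⟩
  obtain ⟨u, hu⟩ := Basic.exists_invol (G := F) hev
  obtain ⟨k, hk⟩ := StronglyEmbedded.exists_conj_mem hSE
    (u := (⟨(u : G), hFK u.2⟩ : K))
    ((orderOf_injective K.subtype K.subtype_injective _).symm.trans
      ((orderOf_injective F.subtype F.subtype_injective u).trans hu))
  rw [Subgroup.mem_subgroupOf] at hk
  have hkF : (k : G) * u * (k : G)⁻¹ ∈ F := Subgroup.Normal.conj_mem inferInstance _ u.2 _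
  have hkN : (k : G) * u * (k : G)⁻¹ ∈ N := by simpa using hk
  refine StronglyEmbedded.of_forall_conj (fun h => hnle (Subgroup.subgroupOf_eq_top.1 h)) ?_ ?_
  · rw [even_iff_two_dvd]
    have hy : orderOf (⟨⟨_, hkF⟩, hkN⟩ : N.subgroupOf F) = 2 := by
      rw [← orderOf_injective (N.subgroupOf F).subtype Subtype.val_injective,
        ← orderOf_injective F.subtype F.subtype_injective]
      simpa [Basic.orderOf_conj_eq] using
        (orderOf_injective F.subtype F.subtype_injective u).trans hu
    exact hy ▸ orderOf_dvd_natCard _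
  · intro t htN ht g hg
    refine StronglyEmbedded.mem_of_conj_mem hSE (t := (⟨(t : G), hFK t.2⟩ : K))
      (g := (⟨(g : G), hFK g.2⟩ : K))
      ((orderOf_injective K.subtype K.subtype_injective _).symm.trans
        ((orderOf_injective F.subtype F.subtype_injective t).trans ht)) ?_ ?_
    · exact htN
    · exact hg

/-- The reduction from the tightly embedded criterion. -/
theorem normal_or_stronglyEmbedded (hF : IsSimpleGroup ↥(Cfsg.generalizedFittingSubgroup G))
    (hF' : ¬ IsMulCommutative ↥(Cfsg.generalizedFittingSubgroup G))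
    {H : Subgroup G} (hH : Cfsg.IsTightlyEmbedded H)
    (hcrit : H.Normal ∨ Cfsg.IsStronglyEmbedded
      ((Subgroup.normalizer (H : Set G)).subgroupOf (Subgroup.normalClosure (H : Set G)))) :
    H.Normal ∨ ∃ M : Subgroup ↥(Cfsg.generalizedFittingSubgroup G), Cfsg.IsStronglyEmbedded M := by
  rcases hcrit with hn | hSE
  · exact Or.inl hn
  set F := Cfsg.generalizedFittingSubgroup G with hFd
  have hev : Even (Nat.card ↥F) := even_card_genFitting hF hF'
  have hC : Subgroup.centralizer (F : Set G) = ⊥ := centralizer_eq_bot hF hF'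
  have hne : H ≠ ⊥ := fun h => by
    have := hH.1
    rw [h, Subgroup.card_bot] at this
    exact Nat.not_even_one this
  -- a subgroup normalised by `F` and not centralised by it contains `F`
  have key : ∀ X : Subgroup G, X ≠ ⊥ → F ≤ Subgroup.normalizer (X : Set G) → F ≤ X := by
    intro X hX hnorm
    haveI : (X.subgroupOf F).Normal :=
      Subgroup.normal_subgroupOf_of_le_normalizer hnorm
    rcases Subgroup.Normal.eq_bot_or_eq_top (H := X.subgroupOf F) inferInstance with h | h
    · exfalso
      apply hX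
      rw [eq_bot_iff]
      intro x hx
      rw [← hC]
      refine Subgroup.mem_centralizer_iff.2 fun f hf => ?_
      have hfx : f * x * f⁻¹ ∈ X :=
        (Subgroup.mem_normalizer_iff.1 (hnorm hf) x).1 hx
      have h1 : f * x * f⁻¹ * x⁻¹ ∈ X := mul_mem hfx (inv_mem hx)
      have h2 : f * x * f⁻¹ * x⁻¹ ∈ F := by
        have : x * f⁻¹ * x⁻¹ ∈ F := Subgroup.Normal.conj_mem inferInstance _ (inv_mem hf) _
        simpa [mul_assoc] using mul_mem hf this
      have h4 : (⟨f * x * f⁻¹ * x⁻¹, h2⟩ : ↥F) ∈ X.subgroupOf F := Subgroup.mem_subgroupOf.2 h1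
      rw [h, Subgroup.mem_bot] at h4
      have h3 : f * x * f⁻¹ * x⁻¹ = 1 := Subtype.ext_iff.1 h4
      calc f * x = (f * x * f⁻¹ * x⁻¹) * (x * f) := by group
        _ = x * f := by rw [h3, one_mul]
    · exact Subgroup.subgroupOf_eq_top.1 h
  have hFK : F ≤ Subgroup.normalClosure (H : Set G) := by
    refine key _ (fun h => hne (eq_bot_iff.2 (h ▸ Subgroup.le_normalClosure))) ?_
    rw [Subgroup.normalizer_eq_top_iff.2 inferInstance]
    exact le_top
  by_cases hle : F ≤ Subgroup.normalizer (H : Set G)
  · refine Or.inl (Subgroup.normalizer_eq_top_iff.1 (eq_top_iff.2 fun g _ => ?_))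
    by_contra hg
    have hFH := key H hne hle
    have hsub : F ≤ H ⊓ H.map (MulAut.conj g).toMonoidHom := by
      refine le_inf hFH fun x hx => ⟨g⁻¹ * x * g, hFH ?_, by simp [mul_assoc]⟩
      simpa using (inferInstance : F.Normal).conj_mem x hx g⁻¹
    exact Nat.not_even_iff_odd.2 (hH.2 g hg)
      (even_iff_two_dvd.2 ((even_iff_two_dvd.1 hev).trans (Subgroup.card_dvd_of_le hsub)))
  · exact Or.inr ⟨_, inf_normal hSE hFK hev hle⟩

end Cfsg.Agent.Lib.Crit59.Tightly
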