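import Cfsg.Agent.Lib.Crit59.TI
import Cfsg.Agent.Lib.Crit59.Tightly

/-!
# Tightly embedded subgroups give strongly embedded subgroups of `F*(G)`
-/

set_option autoImplicit false

universe u

namespace Cfsg.Agent.Lib.Crit59

/-- The conclusion of S3121. -/
theorem row3121 (hcrit : CritProp.{u}) {G : Type u} [Group G] [Finite G]
    (hF : IsSimpleGroup ↥(Cfsg.generalizedFittingSubgroup G))
    (hF' : ¬ IsMulCommutative ↥(Cfsg.generalizedFittingSubgroup G))
    (H : Subgroup G) (hH : Cfsg.IsTightlyEmbedded H)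
    (hodd : ∀ g : G, g ∉ Subgroup.normalizer (H : Set G) →
      Odd (Nat.card ↥(H.map (MulAut.conj g).toMonoidHom ⊓ Subgroup.normalizer (H : Set G)))) :
    H.Normal ∨ ∃ M : Subgroup ↥(Cfsg.generalizedFittingSubgroup G), Cfsg.IsStronglyEmbedded M :=
  Tightly.normal_or_stronglyEmbedded hF hF' hH (row1911 hcrit H hH hodd)

end Cfsg.Agent.Lib.Crit59
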