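import Cfsg.Agent.Lib.BenderSuzuki.Interface
import Cfsg.Agent.Lib.BenderSuzuki.Coords.Main
import Cfsg.Agent.Lib.Involutions.Basic

/-!
# Invariant subgroups of the root group of a split rank-one group

A subgroup of `Q` containing the involutions and invariant under the two-point stabiliser is `Q`
or has exponent two.
-/

set_option autoImplicit false
set_option linter.style.haveILetI false

universe u v

namespace Cfsg.Agent.Lib.Crit59.Irreducible

open MulAction Cfsg.Agent.Lib.RankOne.Basic Cfsg.Agent.Lib.Involutions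

/-- A group acting without fixed points divides the number of points. -/
theorem dvd_card_of_free {A β : Type*} [Group A] [MulAction A β] [Finite A] [Finite β]
    (hfree : ∀ (g : A) (x : β), g • x = x → g = 1) : Nat.card A ∣ Nat.card β := by
  classical
  haveI : ∀ x : β, Subsingleton ↥(stabilizer A x) := fun x => ⟨fun p q => Subtype.ext
    ((hfree p x p.2).trans (hfree q x q.2).symm)⟩
  haveI := Fintype.ofFinite (Quotient (orbitRel A β))
  rw [Nat.card_congr (selfEquivSigmaOrbitsQuotientStabilizer A β), Nat.card_sigma]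
  refine Finset.dvd_sum fun ω _ => ?_
  rw [← Subgroup.index_eq_card]
  have h := (stabilizer A ω.out).index_mul_card
  rw [Nat.card_unique, mul_one] at h
  exact dvd_of_eq h.symm

variable {X : Type u} {Ω : Type v} [Group X] [MulAction X Ω] [Finite X] {a : Ω} {t : X}
  {Q : Subgroup X}

/-- An element inverted by `t` fixing a non-trivial element of `Q` is trivial. -/
theorem fpf (hS : Cfsg.IsRankOneSetup X Ω a t Q) (h2 : IsPGroup 2 Q) {k y : X}
    (hk : k ∈ BenderSuzuki.kSet a t) (hy : y ∈ Q) (hy1 : y ≠ 1) (hc : k * y * k⁻¹ = y) : k = 1 := by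
  haveI : Fact (Nat.Prime 2) := ⟨Nat.prime_two⟩
  obtain ⟨j, hj⟩ := IsPGroup.iff_orderOf.1 h2 ⟨y, hy⟩
  rw [Subgroup.orderOf_mk] at hj
  obtain ⟨i, rfl⟩ : ∃ i, j = i + 1 := Nat.exists_eq_succ_of_ne_zero fun h0 => hy1 (by
    rw [h0, pow_zero, orderOf_eq_one_iff] at hj; exact hj)
  have hz2 : orderOf (y ^ 2 ^ i) = 2 := by
    rw [orderOf_pow' _ (by positivity), hj, pow_succ,
      Nat.gcd_eq_right (dvd_mul_right _ _), Nat.mul_div_cancel_left _ (by positivity)]
  have hzI : y ^ 2 ^ i ∈ BenderSuzuki.invs X a :=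
    ⟨hS.le (pow_mem hy _), (Basic.invol_iff.1 hz2).2, (Basic.invol_iff.1 hz2).1⟩
  have hzc : k * y ^ 2 ^ i * k⁻¹ = y ^ 2 ^ i := by rw [← conj_pow, hc]
  obtain ⟨u, -, huu⟩ := existsUnique_K hS hzI hzI
  rw [huu k ⟨hk, hzc⟩, huu 1 ⟨⟨one_mem _, by simp⟩, by simp⟩]

/-- The main result. -/
theorem dichotomy (hyp : BenderSuzuki.Hyp X Ω a t Q) (hgood : BenderSuzuki.Good X Ω a t Q)
    {M : Subgroup X} (hMQ : M ≤ Q) (hinv : ∀ z ∈ BenderSuzuki.invs X a, z ∈ M)
    (hM : ∀ d ∈ twoStab X a t, ∀ y ∈ M, d * y * d⁻¹ ∈ M) :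
    M = Q ∨ ∀ y ∈ M, y * y = 1 := by
  classical
  haveI : Fact (Nat.Prime 2) := ⟨Nat.prime_two⟩
  have hS := hyp.setup
  obtain ⟨h2, L, -, -, -, -, hcase⟩ := hgood
  obtain ⟨q, hq⟩ : ∃ q, BenderSuzuki.qNum X a = q := ⟨_, rfl⟩
  -- the elements squaring to one
  have hinvs : ∀ y ∈ Q, (y * y = 1 ↔ y = 1 ∨ y ∈ BenderSuzuki.invs X a) := by
    refine fun y hy => ⟨fun hyy => or_iff_not_imp_left.2 fun h1 => ⟨hS.le hy, h1, hyy⟩, ?_⟩
    rintro (rfl | ⟨-, -, h⟩)
    · exact one_mul 1
    · exact h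
  have hZcard : Nat.card {y : X // y ∈ Q ∧ y * y = 1} = q := by
    rw [← hq, BenderSuzuki.qNum, Nat.card_congr (α := {y : X // y ∈ Q ∧ y * y = 1})
      (β := Option ↥(BenderSuzuki.invs X a))
      { toFun := fun y => if h : (y : X) = 1 then none
          else some ⟨y, ((hinvs y y.2.1).1 y.2.2).resolve_left h⟩
        invFun := fun o => o.elim ⟨1, one_mem _, one_mul 1⟩
          fun z => ⟨z, involutions_stab_mem_Q hS z.2.1 z.2.2.2, z.2.2.2⟩
        left_inv := fun y => by
          by_cases h : (y : X) = 1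
          · simp only [dif_pos h, Option.elim_none]; exact Subtype.ext h.symm
          · simp only [dif_neg h, Option.elim_some]
        right_inv := fun o => by
          cases o with
          | none => simp
          | some z =>
            simp only [Option.elim_some]
            exact dif_neg z.2.2.1 }]
    exact Finite.card_option
  have hsub : {y : X | y ∈ Q ∧ y * y = 1} ⊆ (M : Set X) := by
    rintro y ⟨hy, hyy⟩
    rcases (hinvs y hy).1 hyy with rfl | h
    · exact one_mem M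
    · exact hinv y h
  have hge : q ≤ Nat.card M := by
    rw [← hZcard]
    exact Nat.card_le_card_of_injective (fun y => (⟨y.1, hsub y.2⟩ : M))
      fun y y' e => Subtype.ext (congrArg Subtype.val e :)
  have heq : Nat.card M = q → ∀ y ∈ M, y * y = 1 := fun h y hy => by
    have hbij := (Nat.bijective_iff_injective_and_card
      (fun y : {y : X // y ∈ Q ∧ y * y = 1} => (⟨y.1, hsub y.2⟩ : M))).2
      ⟨fun y y' e => Subtype.ext (congrArg Subtype.val e :), by rw [hZcard, h]⟩
    obtain ⟨w, hw⟩ := hbij.2 ⟨y, hy⟩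
    rw [← show w.1 = y from congrArg Subtype.val hw]
    exact w.2.2
  rcases hcase with ⟨hQc, -, -⟩ | ⟨hQc, hA, -⟩ | ⟨hQc, hV, hVc, F₀, _, _, n, hn, hqn, -, -⟩
  · left
    rw [hq] at hQc
    exact Subgroup.eq_of_le_of_card_ge hMQ (hQc.le.trans hge)
  · -- the torus acts without fixed points
    rw [hq] at hQc
    set A : Subgroup X := L ⊓ twoStab X a t with hAd
    have hAK : ∀ k ∈ A, k ∈ BenderSuzuki.kSet a t := fun k hk => by rw [← hA]; exact hk
    have hAcard : Nat.card A + 1 = q := by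
      have e : Nat.card A = Nat.card ↥(BenderSuzuki.kSet a t) :=
        Nat.card_congr (Equiv.setCongr (s := (A : Set X)) hA)
      rw [e, ← hq, BenderSuzuki.qNum]
      exact congrArg (· + 1) (card_invertedBy hS)
    letI act : MulAction A {y : X // y ∈ M ∧ y ≠ 1} :=
      { smul := fun k y => ⟨(k : X) * y.1 * (k : X)⁻¹, hM k k.2.2 _ y.2.1,
          fun e => y.2.2 (conj_eq_one_iff.1 e)⟩
        one_smul := fun y => Subtype.ext (show (1 : X) * y.1 * 1⁻¹ = y.1 by group)
        mul_smul := fun k l y => Subtype.ext (show (k * l : X) * y.1 * (k * l : X)⁻¹ =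
          (k : X) * ((l : X) * y.1 * (l : X)⁻¹) * (k : X)⁻¹ by group) }
    have hdvd := dvd_card_of_free (A := A) (β := {y : X // y ∈ M ∧ y ≠ 1}) fun k y e =>
      Subtype.ext (fpf hS h2 (hAK k k.2) (hMQ y.2.1) y.2.2 (congrArg Subtype.val e :))
    have hM1 : Nat.card {y : X // y ∈ M ∧ y ≠ 1} + 1 = Nat.card M := by
      rw [← Finite.card_option]
      exact Nat.card_congr
        { toFun := fun o => o.elim 1 fun y => ⟨y.1, y.2.1⟩
          invFun := fun y => if h : (y : X) = 1 then none else some ⟨y, y.2, h⟩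
          left_inv := fun o => by
            cases o with
            | none => simp
            | some y => simp only [Option.elim_some]; exact dif_neg y.2.2
          right_inv := fun y => by
            by_cases h : (y : X) = 1
            · simp only [dif_pos h, Option.elim_none]; exact Subtype.ext h.symm
            · simp only [dif_neg h, Option.elim_some] }
    obtain ⟨r, hr⟩ := IsPGroup.iff_card.1 h2
    obtain ⟨i, -, hqi⟩ := (Nat.dvd_prime_pow Nat.prime_two).1
      (show q ∣ 2 ^ r from ⟨q, by rw [← hr, hQc, pow_two]⟩)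
    obtain ⟨j, hj⟩ := IsPGroup.iff_card.1 (h2.to_le hMQ)
    have hle : Nat.card M ≤ q ^ 2 := hQc ▸ Subgroup.card_le_of_le hMQ
    have hij : i ≤ j := (Nat.pow_le_pow_iff_right (by norm_num)).1 (hqi ▸ hj ▸ hge)
    have hj2 : j ≤ 2 * i := (Nat.pow_le_pow_iff_right (by norm_num : 1 < 2)).1 (by
      rw [pow_mul', ← hqi, ← hj]; exact hle)
    -- `q - 1` divides `2 ^ j - 1`
    have hmod : 2 ^ j % (Nat.card A) = 1 % Nat.card A := by
      rw [← hj, ← hM1, Nat.add_mod, Nat.mod_eq_zero_of_dvd hdvd, zero_add, Nat.mod_mod]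
    rcases eq_or_lt_of_le hij with rfl | hlt
    · exact Or.inr (heq (hj.trans hqi.symm))
    rcases eq_or_lt_of_le hj2 with rfl | hlt2
    · left
      exact Subgroup.eq_of_le_of_card_ge hMQ (by rw [hQc, hj, hqi, ← pow_mul, mul_comm])
    exfalso
    obtain ⟨l, rfl⟩ := Nat.exists_eq_add_of_le hij
    have hAi : Nat.card A + 1 = 2 ^ i := hAcard.trans hqi
    have h2i : 2 ^ i % Nat.card A = 1 % Nat.card A := by
      rw [← hAi, Nat.add_mod, Nat.mod_self, zero_add, Nat.mod_mod]
    have hl : 2 ^ l % Nat.card A = 1 % Nat.card A := by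
      rw [← hmod, pow_add, Nat.mul_mod, h2i, ← Nat.mul_mod, one_mul]
    have hl1 : 2 ≤ 2 ^ l := Nat.le_self_pow (by omega) 2
    have hl2 : 2 * 2 ^ l ≤ 2 ^ i := by
      rw [← pow_succ']; exact Nat.pow_le_pow_right (by norm_num) (by omega)
    rw [Nat.mod_eq_of_lt (by omega), Nat.mod_eq_of_lt (by omega)] at hl
    omega
  · -- coordinates
    rw [hq] at hQc hVc hqn
    have hq4 : 4 ≤ q := by
      rw [hqn]
      calc 4 = 2 ^ 2 := rfl
        _ ≤ 2 ^ n := Nat.pow_le_pow_right (by norm_num) hn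
    have hker : BenderSuzuki.vKer a t ≠ ⊥ := by
      intro e
      have hb : L ⊓ BenderSuzuki.vGrp a t = ⊥ := le_bot_iff.1 (hV.trans e.le)
      rw [hb, Subgroup.card_bot, one_mul] at hVc
      have : Nat.gcd 3 (q + 1) ≤ 3 := Nat.gcd_le_left _ (by norm_num)
      omega
    obtain ⟨F, _, _, c, hF, hco⟩ := BenderSuzuki.Coords.propCoords X Ω a t Q hyp h2
      (by rw [hq]; exact hQc) hker
    rw [hq] at hF hco
    have hchar : CharP F 2 := by
      obtain ⟨p, hp⟩ := CharP.exists F
      obtain ⟨k, hpp, hk⟩ := FiniteField.card F p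
      rw [hF, hqn, ← pow_mul] at hk
      have hd : p ∣ 2 ^ (n * 2) := hk ▸ dvd_pow_self p k.ne_zero
      have : p = 2 := (Nat.prime_dvd_prime_iff_eq hpp Nat.prime_two).1 (hpp.dvd_of_dvd_pow hd)
      exact this ▸ hp
    obtain ⟨w, μ, hw, hμ1, hμq, hwc⟩ := hco.unit
    have hc1 : (c 1).1 = 0 := by
      have h := congrArg Prod.fst (hco.mul 1 (one_mem Q) 1 (one_mem Q))
      simpa using h
    -- the first coordinates form a subgroup invariant under `GF(q)` and `μ`
    let W : Set F := {x | ∃ y ∈ M, (c y).1 = x}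
    have hW0 : (0 : F) ∈ W := ⟨1, one_mem M, hc1⟩
    have hWadd : ∀ x ∈ W, ∀ x' ∈ W, x + x' ∈ W := by
      rintro _ ⟨y, hy, rfl⟩ _ ⟨y', hy', rfl⟩
      exact ⟨y * y', mul_mem hy hy', by rw [hco.mul y (hMQ hy) y' (hMQ hy')]⟩
    have hWl : ∀ l : F, l ^ q = l → ∀ x ∈ W, l * x ∈ W := by
      intro l hl
      rintro _ ⟨y, hy, rfl⟩
      by_cases hl0 : l = 0
      · rw [hl0, zero_mul]; exact hW0
      obtain ⟨k, hk, hkc⟩ := hco.torus l hl hl0
      exact ⟨_, hM k hk.1 y hy, by rw [hkc y (hMQ hy)]⟩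
    have hWμ : ∀ x ∈ W, μ * x ∈ W := by
      rintro _ ⟨y, hy, rfl⟩
      exact ⟨_, hM w hw.1 y hy, by rw [hwc y (hMQ hy)]⟩
    by_cases hW : ∀ x ∈ W, x = 0
    · right
      intro y hy
      have hx := hW _ ⟨y, hy, rfl⟩
      have hyy : c (y * y) = c 1 := by
        have h1 := hco.mul 1 (one_mem Q) 1 (one_mem Q)
        rw [hc1, mul_one] at h1
        rw [hco.mul y (hMQ hy) y (hMQ hy), hx, h1]
        simp [CharTwo.add_self_eq_zero]
      exact hco.bijOn.injOn (mul_mem (hMQ hy) (hMQ hy)) (one_mem Q) hyy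
    left
    push Not at hW
    obtain ⟨x₀, hx₀, hx₀0⟩ := hW
    -- every element of `F` is `α + β μ` with `α, β ∈ GF(q)`
    have hμK : μ ^ q ≠ μ := by
      intro e
      rw [pow_succ, e] at hμq
      exact hμ1 ((CharTwo.sq_inj (R := F)).1 (by rw [one_pow, pow_two, hμq]))
    have hWall : ∀ x : F, x ∈ W := by
      intro x
      have hqq : ∀ l : F, (l ^ q) ^ q = l := fun l => by
        rw [← pow_mul, ← pow_two, ← hF, FiniteField.pow_card]
      set δ := μ ^ q + μ with hδ
      have hδ0 : δ ≠ 0 := fun e => hμK (CharTwo.add_eq_zero.1 e)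
      set x' := x / x₀ with hx'
      set β := (x' ^ q + x') / δ with hβ
      set α := x' + β * μ with hα
      have hadd : ∀ r s : F, (r + s) ^ q = r ^ q + s ^ q := fun r s => by
        rw [hqn, add_pow_char_pow]
      have hβq : β ^ q = β := by
        rw [hβ, div_pow, hadd, hqq, hδ, hadd, hqq, add_comm (x' ^ q), add_comm (μ ^ q)]
      have hαq : α ^ q = α := by
        have h1 : β * δ = x' ^ q + x' := div_mul_cancel₀ _ hδ0
        rw [hδ] at h1
        rw [hα, hadd, mul_pow, hβq]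
        have h2 : x' ^ q + β * μ ^ q + (x' + β * μ) = 0 := by
          rw [show x' ^ q + β * μ ^ q + (x' + β * μ) = x' ^ q + x' + β * (μ ^ q + μ) by ring, h1,
            CharTwo.add_self_eq_zero]
        exact CharTwo.add_eq_zero.1 h2
      have hx : x = α * x₀ + μ * (β * x₀) := by
        have h1 : x' * x₀ = x := div_mul_cancel₀ _ hx₀0
        rw [hα, ← h1]
        linear_combination -(CharTwo.add_self_eq_zero (μ * β * x₀))
      rw [hx]
      exact hWadd _ (hWl α hαq x₀ hx₀) _ (hWμ _ (hWl β hβq x₀ hx₀))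
    refine le_antisymm hMQ fun y hy => ?_
    obtain ⟨y', hy', hyy'⟩ := hWall (c y).1
    -- `y'⁻¹ * y` has first coordinate zero
    have hr : y'⁻¹ * y ∈ Q := mul_mem (inv_mem (hMQ hy')) hy
    have hr0 : (c (y'⁻¹ * y)).1 = 0 := by
      have h1 := congrArg Prod.fst (hco.mul y' (hMQ hy') _ hr)
      rw [mul_inv_cancel_left] at h1
      simp only [hyy'] at h1
      exact (left_eq_add).1 h1
    have hrr : y'⁻¹ * y * (y'⁻¹ * y) = 1 := by
      refine hco.bijOn.injOn (mul_mem hr hr) (one_mem Q) ?_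
      have h1 := hco.mul 1 (one_mem Q) 1 (one_mem Q)
      rw [hc1, mul_one] at h1
      rw [hco.mul _ hr _ hr, hr0, h1]
      simp [CharTwo.add_self_eq_zero]
    simpa using mul_mem hy' (hsub ⟨hr, hrr⟩)

end Cfsg.Agent.Lib.Crit59.Irreducible
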