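import Cfsg.Agent.Lib.Crit59.TI
import Cfsg.Agent.Lib.Crit59.Irreducible
import Cfsg.Agent.Lib.RankOneClosed59.Main
import Cfsg.Prelude.Def_TwoFusion
import Cfsg.Prelude.Def_PLocal
import Cfsg.Prelude.Def_Involutions
import Cfsg.Prelude.Def_CaseTheorems

/-!
# A proper overgroup of the local groups of a strongly closed `2`-subgroup (S3289)

If `<D>` has two commuting involutions it contains `S` and the root group of the Bender group
carries the last conjuncts; otherwise `S` has one involution and is a Sylow subgroup of its normal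
closure (`RankOneClosed59.sylow_of_unique`).
-/

set_option autoImplicit false
set_option linter.style.haveILetI false

universe u

namespace Cfsg.Agent.Lib.Crit59.Row3289

open MulAction Cfsg.Agent.Lib.Involutions

variable {G : Type u} [Group G] [Finite G]

/-- In the two-rank case `S` is `T ∩ <D>` or has exponent two. -/
theorem exponent_two (T : Sylow 2 G) {S H X : Subgroup G} [X.Normal] (hSX : S ≤ X)
    (hsc : Cfsg.IsStronglyClosed S (T : Subgroup G)) (hTH : (T : Subgroup G) ≤ H)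
    (hSE : Cfsg.IsStronglyEmbedded (H.subgroupOf X)) (h2 : BenderSuzuki.TwoRank ↥X)
    (hinvS : ∀ y ∈ (T : Subgroup G), y ∈ X → orderOf y = 2 → y ∈ S) :
    (T : Subgroup G) ⊓ X ≤ S ∨ ∀ s ∈ S, s * s = 1 := by
  classical
  haveI : Fact (Nat.Prime 2) := ⟨Nat.prime_two⟩
  obtain ⟨TW, hTW⟩ := Transfer.Fusion.exists_sylow_map_eq_inf X T
  have hTWmem : ∀ x : X, x ∈ (TW : Subgroup X) ↔ (x : G) ∈ (T : Subgroup G) := by
    intro x
    constructor
    · intro hx
      exact (hTW.le ⟨x, hx, rfl⟩).2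
    · intro hx
      obtain ⟨y, hy, hyx⟩ := hTW.ge (Subgroup.mem_inf.2 ⟨x.2, hx⟩)
      exact Subtype.ext hyx ▸ hy
  set π := QuotientGroup.mk' (Cfsg.oddCore X) with hπ
  obtain ⟨hSE', h2', hcore⟩ := BenderConsumers23.quotient_oddCore hSE h2
  obtain ⟨t, Q, hyp, hgood⟩ := BenderConsumers23.good BenderOne.propPartOneFinal
    BenderSuzuki.propMain hSE' h2' hcore
  set Hb := (H.subgroupOf X).map π with hHb
  set a : (X ⧸ Cfsg.oddCore X) ⧸ Hb :=
    ((1 : X ⧸ Cfsg.oddCore X) : (X ⧸ Cfsg.oddCore X) ⧸ Hb) with ha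
  have hsetup := hyp.setup
  have hfix : ∀ y : X ⧸ Cfsg.oddCore X, y • a = a ↔ y ∈ Hb := fun y => by
    rw [ha, StronglyEmbedded.smul_coset_eq_iff]; simp
  set Tb := TW.mapSurjective (QuotientGroup.mk'_surjective (Cfsg.oddCore X)) with hTb
  have hTbfix : ∀ y ∈ (Tb : Subgroup (X ⧸ Cfsg.oddCore X)), y • a = a := by
    rw [hTb, Sylow.coe_mapSurjective]
    rintro _ ⟨x, hx, rfl⟩
    exact (hfix _).2 ⟨x, hTH ((hTWmem x).1 hx), rfl⟩
  -- `Q` is the image of `T ∩ X`
  have hQT : Q ≤ (Tb : Subgroup (X ⧸ Cfsg.oddCore X)) := by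
    refine le_of_le_of_eq le_sup_right (Tb.3 (IsPGroup.to_sup_of_normal_right' Tb.2 hgood.1
      fun g hg => ?_) le_sup_left)
    refine Subgroup.mem_normalizer_iff.2 fun x =>
      ⟨fun hx => hsetup.conj_mem g (hTbfix g hg) x hx, fun hx => ?_⟩
    simpa [mul_assoc] using hsetup.conj_mem g⁻¹ (hTbfix _ (inv_mem hg)) _ hx
  have hTQ : (Tb : Subgroup (X ⧸ Cfsg.oddCore X)) ≤ Q := by
    intro y hy
    obtain ⟨q, hq, d, hd, rfl⟩ := RankOne.Basic.exists_Q_D hsetup (hTbfix y hy)
    have hdT : d ∈ (Tb : Subgroup (X ⧸ Cfsg.oddCore X)) := by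
      simpa using mul_mem (inv_mem (hQT hq)) hy
    obtain ⟨j, hj⟩ := IsPGroup.iff_orderOf.1 Tb.2 ⟨d, hdT⟩
    rw [Subgroup.orderOf_mk] at hj
    have hodd : Odd (orderOf d) := hsetup.odd_card.of_dvd_nat (Subgroup.orderOf_dvd_natCard _ hd)
    rw [hj] at hodd
    rcases j with _ | j
    · rw [pow_zero, orderOf_eq_one_iff] at hj
      rw [hj, mul_one]; exact hq
    · exact absurd hodd (Nat.not_odd_iff_even.2 ((Nat.even_pow' (by omega)).2 even_two))
  -- the map is injective on `T ∩ X`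
  have hinj : ∀ x : X, (x : G) ∈ (T : Subgroup G) → π x = 1 → x = 1 := by
    intro x hx hx1
    obtain ⟨j, hj⟩ := IsPGroup.iff_orderOf.1 T.2 ⟨x, hx⟩
    rw [Subgroup.orderOf_mk, Subgroup.orderOf_coe] at hj
    have hodd : Odd (orderOf x) := (ZStar.Elements.oddCore_odd (G := X)).of_dvd_nat
      (Subgroup.orderOf_dvd_natCard _ ((QuotientGroup.eq_one_iff x).1 hx1))
    rw [hj] at hodd
    rcases j with _ | j
    · rwa [pow_zero, orderOf_eq_one_iff] at hj
    · exact absurd hodd (Nat.not_odd_iff_even.2 ((Nat.even_pow' (by omega)).2 even_two))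
  set M := (S.subgroupOf X).map π with hM
  have hscW : Cfsg.IsStronglyClosed (S.subgroupOf X) (TW : Subgroup X) :=
    ⟨fun s hs => (hTWmem s).2 (hsc.1 hs), fun s hs g hg => hsc.2 s hs g ((hTWmem _).1 hg)⟩
  have hscM : Cfsg.IsStronglyClosed M (Tb : Subgroup (X ⧸ Cfsg.oddCore X)) := by
    rw [hTb, Sylow.coe_mapSurjective]; exact Cfsg.Agent.S1250.result TW _ hscW _
  have hinvM : ∀ y ∈ BenderSuzuki.invs (X ⧸ Cfsg.oddCore X) a, y ∈ M := by
    rintro y ⟨hy, hy1, hyy⟩
    have hyT := hQT (RankOne.Basic.involutions_stab_mem_Q hsetup hy hyy)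
    rw [hTb, Sylow.coe_mapSurjective] at hyT
    obtain ⟨w, hw, rfl⟩ := hyT
    refine ⟨w, Subgroup.mem_subgroupOf.2 (hinvS _ ((hTWmem w).1 hw) w.2 ?_), rfl⟩
    rw [Subgroup.orderOf_coe, Basic.invol_iff]
    refine ⟨hinj _ ?_ (by rw [map_mul]; exact hyy), fun e => hy1 (by rw [e, map_one])⟩
    exact mul_mem ((hTWmem w).1 hw) ((hTWmem w).1 hw)
  have hdinv : ∀ d ∈ RankOne.Basic.twoStab (X ⧸ Cfsg.oddCore X) a t, ∀ y ∈ M,
      d * y * d⁻¹ ∈ M := fun d hd y hy =>
    hscM.2 y hy d (hQT (RankOne.Basic.twoStab_norm hsetup hd (hTQ (hscM.1 hy))))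
  rcases Irreducible.dichotomy hyp hgood (fun y hy => hTQ (hscM.1 hy)) hinvM hdinv with h | h
  · left
    rintro x ⟨hxT, hxX⟩
    have hx : π ⟨x, hxX⟩ ∈ M := by
      rw [h]
      refine hTQ ?_
      rw [hTb, Sylow.coe_mapSurjective]
      exact ⟨⟨x, hxX⟩, (hTWmem _).2 hxT, rfl⟩
    obtain ⟨s, hs, hsx⟩ := hx
    have h1 := hinj (s⁻¹ * ⟨x, hxX⟩) (mul_mem (inv_mem (hsc.1 hs)) hxT)
      (by rw [map_mul, map_inv, hsx, inv_mul_cancel])
    rw [inv_mul_eq_one] at h1
    rw [h1] at hs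
    exact hs
  · right
    intro s hs
    have h1 := h (π ⟨s, hSX hs⟩) ⟨⟨s, hSX hs⟩, hs, rfl⟩
    rw [← map_mul] at h1
    exact congrArg Subtype.val (hinj _ (mul_mem (hsc.1 hs) (hsc.1 hs)) h1)

omit [Finite G] in
theorem inf_subgroupOf_self (H X : Subgroup G) : (H ⊓ X).subgroupOf X = H.subgroupOf X := by
  ext x
  simp [Subgroup.mem_subgroupOf]

/-- A strongly closed subgroup with one involution is a Sylow subgroup of its normal closure. -/
theorem sylow_of_isolated (T : Sylow 2 G) {S : Subgroup G}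
    (hsc : Cfsg.IsStronglyClosed S (T : Subgroup G)) {z : G} (hzS : z ∈ S) (hz : orderOf z = 2)
    (huniq : ∀ x ∈ S, orderOf x = 2 → x = z) :
    (T : Subgroup G) ⊓ Subgroup.normalClosure (S : Set G) ≤ S := by
  classical
  haveI : Fact (Nat.Prime 2) := ⟨Nat.prime_two⟩
  obtain ⟨N, hN, hNodd, hNz⟩ := ZStar.UniqueCase.zstar T z hz (hsc.1 hzS) fun g hg =>
    huniq _ (hsc.2 z hzS g hg) ((Basic.orderOf_conj_eq g z).trans hz)
  set O := Cfsg.oddCore G with hO
  haveI hOn : O.Normal := by rw [hO]; infer_instance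
  have hOodd : Odd (Nat.card O) := ZStar.Elements.oddCore_odd
  set π := QuotientGroup.mk' O with hπ
  have hinj : ∀ x ∈ (T : Subgroup G), π x = 1 → x = 1 := by
    intro x hx hx1
    obtain ⟨j, hj⟩ := IsPGroup.iff_orderOf.1 T.2 ⟨x, hx⟩
    rw [Subgroup.orderOf_mk] at hj
    have hodd : Odd (orderOf x) :=
      hOodd.of_dvd_nat (Subgroup.orderOf_dvd_natCard _ ((QuotientGroup.eq_one_iff x).1 hx1))
    rw [hj] at hodd
    rcases j with _ | j
    · rwa [pow_zero, orderOf_eq_one_iff] at hj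
    · exact absurd hodd (Nat.not_odd_iff_even.2 ((Nat.even_pow' (by omega)).2 even_two))
  set Tb := T.mapSurjective (QuotientGroup.mk'_surjective O) with hTb
  have hscb : Cfsg.IsStronglyClosed (S.map π) (Tb : Subgroup (G ⧸ O)) := by
    rw [hTb, Sylow.coe_mapSurjective]; exact Cfsg.Agent.S1250.result T S hsc O
  have hO1 : ∀ K : Subgroup (G ⧸ O), K.Normal → Odd (Nat.card K) → K = ⊥ :=
    ZStar.Elements.quotient_oddCore
  have hzb : π z ∈ Subgroup.center (G ⧸ O) := by
    refine Subgroup.mem_center_iff.2 fun y => ?_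
    obtain ⟨g, rfl⟩ := QuotientGroup.mk'_surjective O y
    have h1 : z * g * z⁻¹ * g⁻¹ ∈ O := (haveI := hN; ZStar.Elements.le_oddCore hNodd (hNz g))
    have h2 : π (z * g * z⁻¹ * g⁻¹) = 1 := (QuotientGroup.eq_one_iff _).2 h1
    rw [map_mul, map_mul, map_mul, map_inv, map_inv, mul_inv_eq_one, mul_inv_eq_iff_eq_mul] at h2
    exact h2.symm
  have hzb2 : orderOf (π z) = 2 := Basic.invol_iff.2 ⟨by rw [← map_mul, Basic.invol_mul_self hz,
    map_one], fun e => Basic.invol_ne_one hz (hinj z (hsc.1 hzS) e)⟩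
  have hub : ∀ y ∈ S.map π, orderOf y = 2 → y = π z := by
    rintro _ ⟨s, hs, rfl⟩ hy
    have hss : s * s = 1 := hinj _ (mul_mem (hsc.1 hs) (hsc.1 hs))
      (by rw [map_mul]; exact Basic.invol_mul_self hy)
    have hs1 : s ≠ 1 := fun e => Basic.invol_ne_one hy (by rw [e, map_one])
    rw [huniq s hs (Basic.invol_iff.2 ⟨hss, hs1⟩)]
  have hkey := RankOneClosed59.sylow_of_unique (G ⧸ O) Tb (S.map π) (π z) hO1 hscb
    ⟨z, hzS, rfl⟩ hzb2 hzb hub
  rintro x ⟨hxT, hxN⟩
  have hxN' : π x ∈ Subgroup.normalClosure ((S.map π : Subgroup _) : Set (G ⧸ O)) := by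
    haveI := (Subgroup.normalClosure_normal
      (s := ((S.map π : Subgroup _) : Set (G ⧸ O)))).comap π
    exact Subgroup.normalClosure_le_normal (N := (Subgroup.normalClosure
      ((S.map π : Subgroup _) : Set (G ⧸ O))).comap π)
      (fun s hs => Subgroup.subset_normalClosure ⟨s, hs, rfl⟩) hxN
  have hxT' : π x ∈ (Tb : Subgroup (G ⧸ O)) := by
    rw [hTb, Sylow.coe_mapSurjective]; exact ⟨x, hxT, rfl⟩
  obtain ⟨s, hs, hsx⟩ := hkey (Subgroup.mem_inf.2 ⟨hxT', hxN'⟩)
  have h1 := hinj (s⁻¹ * x) (mul_mem (inv_mem (hsc.1 hs)) hxT)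
    (by rw [map_mul, map_inv, hsx, inv_mul_cancel])
  rwa [← inv_mul_eq_one.1 h1]

/-- The conclusion of S3289. -/
theorem row3289 (hcrit : CritProp.{u}) (T : Sylow 2 G) (S : Subgroup G) (hS : S ≠ ⊥)
    (hsc : Cfsg.IsStronglyClosed S (T : Subgroup G)) (H : Subgroup G) (hH : H ≠ ⊤)
    (hC : ∀ s ∈ S, s ≠ 1 → Subgroup.centralizer ({s} : Set G) ≤ H)
    (hN : Subgroup.normalizer ((Cfsg.omegaOne 2 S : Subgroup G) : Set G) ≤ H) :
    Cfsg.IsStronglyEmbedded ((H ⊓ Subgroup.normalClosure (S : Set G)).subgroupOf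
        (Subgroup.normalClosure (S : Set G))) ∧
      (S = (T : Subgroup G) ⊓ Subgroup.normalClosure (S : Set G) ∨
        S = Cfsg.omegaOne 2 ((T : Subgroup G) ⊓ Subgroup.normalClosure (S : Set G))) ∧
      (Cfsg.PRankLE 2 1 ↥S → S = (T : Subgroup G) ⊓ Subgroup.normalClosure (S : Set G)) := by
  classical
  haveI : Fact (Nat.Prime 2) := ⟨Nat.prime_two⟩
  have hNS : Subgroup.normalizer (S : Set G) ≤
      Subgroup.normalizer ((Cfsg.omegaOne 2 S : Subgroup G) : Set G) := by
    intro n hn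
    have hf : ∀ n ∈ Subgroup.normalizer (S : Set G), ∀ x ∈ Cfsg.omegaOne 2 S,
        n * x * n⁻¹ ∈ Cfsg.omegaOne 2 S := by
      intro n hn x hx
      have hle : Cfsg.omegaOne 2 S ≤ (Cfsg.omegaOne 2 S).comap (MulAut.conj n).toMonoidHom := by
        refine (Subgroup.closure_le _).2 ?_
        rintro y ⟨hy, hy2⟩
        exact Subgroup.subset_closure ⟨(Subgroup.mem_normalizer_iff.1 hn y).1 hy, by
          show (n * y * n⁻¹) ^ 2 = 1
          rw [conj_pow, hy2]; group⟩
      exact hle hx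
    exact Subgroup.mem_normalizer_iff.2 fun x => ⟨hf n hn x, fun hx => by
      simpa [mul_assoc] using hf _ (inv_mem hn) _ hx⟩
  have hNT : Subgroup.normalizer ((T : Subgroup G) : Set G) ≤ H :=
    ((normalizer_le_of_closed hsc).trans hNS).trans hN
  have hC2 : ∀ s ∈ S, orderOf s = 2 → Subgroup.centralizer ({s} : Set G) ≤ H :=
    fun s hs h => hC s hs (Basic.invol_ne_one h)
  have hset := setting_closed T hsc hC2 hNT hS hH
  have hSE := main_closed T hsc hC2 hNT hcrit hS hH
  have hTH : (T : Subgroup G) ≤ H := Subgroup.le_normalizer.trans hNT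
  set X₀ := Subgroup.closure (invClosure S) with hX₀
  set X := Subgroup.normalClosure (S : Set G) with hX
  haveI hX₀n : X₀.Normal := by
    refine ⟨fun x hx g => ?_⟩
    have := (Subgroup.closure_le (X₀.comap (MulAut.conj g).toMonoidHom)).2 ?_ hx
    · simpa using this
    intro y hy
    exact Subgroup.subset_closure (hset.conj y hy g)
  haveI hXn : X.Normal := Subgroup.normalClosure_normal
  have hSX : S ≤ X := Subgroup.le_normalClosure
  have hX₀X : X₀ ≤ X := by
    rw [hX₀, Subgroup.closure_le]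
    rintro d ⟨-, g, hg⟩
    simpa [mul_assoc] using hXn.conj_mem _ (hSX hg) g⁻¹
  obtain ⟨z, hzS, hz, hTz⟩ := exists_central_invol T hS hsc
  have hzD : z ∈ invClosure S := ⟨hz, 1, by simpa using hzS⟩
  have hzX₀ : z ∈ X₀ := Subgroup.subset_closure hzD
  have hall : ∀ y ∈ X₀, orderOf y = 2 → y ∈ invClosure S := by
    intro y hy hy2
    obtain ⟨c, hc⟩ := isConj_iff.1 (StronglyEmbedded.isConj_involutions hSE
      (s := (⟨z, hzX₀⟩ : X₀)) (t := (⟨y, hy⟩ : X₀)) ((Subgroup.orderOf_mk z hzX₀).trans hz)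
      ((Subgroup.orderOf_mk y hy).trans hy2))
    have hc' : (c : G) * z * (c : G)⁻¹ = y := congrArg Subtype.val hc
    rw [← hc']
    exact hset.conj z hzD _
  have hclosedinv : ∀ y ∈ (T : Subgroup G), y ∈ invClosure S → y ∈ S := by
    rintro y hy ⟨-, g, hg⟩
    have e : g⁻¹ * (g * y * g⁻¹) * g⁻¹⁻¹ = y := by group
    have := hsc.2 _ hg g⁻¹ (e.symm ▸ hy)
    rwa [e] at this
  -- the first conjunct from the involutions of `X`
  have first : (∀ y ∈ X, orderOf y = 2 → y ∈ invClosure S) →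
      Cfsg.IsStronglyEmbedded ((H ⊓ X).subgroupOf X) := by
    intro hXinv
    rw [inf_subgroupOf_self]
    refine StronglyEmbedded.of_forall_conj ?_ ?_ ?_
    · intro htop
      refine hSE.1 (eq_top_iff.2 fun y _ => ?_)
      have h1 : (⟨(y : G), hX₀X y.2⟩ : X) ∈ H.subgroupOf X := htop ▸ Subgroup.mem_top _
      exact h1
    · have ho : orderOf (⟨⟨z, hX₀X hzX₀⟩, hTH (hsc.1 hzS)⟩ : H.subgroupOf X) = 2 := by
        rw [← Subgroup.orderOf_coe, ← Subgroup.orderOf_coe]
        exact hz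
      exact even_iff_two_dvd.2 (ho ▸ orderOf_dvd_natCard _)
    · intro y hyH hy g hg
      exact hset.fix _ (hXinv _ y.2 ((Subgroup.orderOf_coe y).trans hy)) hyH g hg
  by_cases h2 : BenderSuzuki.TwoRank ↥X₀
  · have hle := Socle.le_closure T hsc hC2 hNT hS hH hSE h2
    have hXeq : X = X₀ := le_antisymm (Subgroup.normalClosure_le_normal hle) hX₀X
    have hXinv : ∀ y ∈ X, orderOf y = 2 → y ∈ invClosure S := fun y hy => hall y (hXeq ▸ hy)
    have hinS : ∀ y ∈ (T : Subgroup G), y ∈ X → orderOf y = 2 → y ∈ S := fun y hy hyX hy2 =>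
      hclosedinv y hy (hXinv y hyX hy2)
    refine ⟨first hXinv, ?_, ?_⟩
    · rcases exponent_two T (X := X₀) hle hsc hTH hSE h2
        (fun y hy hyX => hinS y hy (hX₀X hyX)) with h | h
      · exact Or.inl (le_antisymm (le_inf hsc.1 hSX) (by rw [hXeq]; exact h))
      · refine Or.inr (le_antisymm (fun s hs => Subgroup.subset_closure
          (show s ∈ {x : G | x ∈ (T : Subgroup G) ⊓ X ∧ x ^ 2 = 1} from
            ⟨Subgroup.mem_inf.2 ⟨hsc.1 hs, hSX hs⟩, by rw [pow_two]; exact h s hs⟩))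
          ((Subgroup.closure_le _).2 ?_))
        rintro y ⟨⟨hyT, hyX⟩, hy2⟩
        rw [pow_two] at hy2
        by_cases h1 : y = 1
        · rw [h1]; exact one_mem S
        · exact hinS y hyT hyX (Basic.invol_iff.2 ⟨hy2, h1⟩)
    · intro hrank
      exfalso
      obtain ⟨x, y, hx1, hy1, hne, hxx, hyy, hxy⟩ := h2
      have hx : orderOf (x : G) = 2 :=
        (Subgroup.orderOf_coe x).trans (Basic.invol_iff.2 ⟨hxx, hx1⟩)
      have hy : orderOf (y : G) = 2 :=
        (Subgroup.orderOf_coe y).trans (Basic.invol_iff.2 ⟨hyy, hy1⟩)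
      obtain ⟨g, hg⟩ := ProductFusion.exists_conj_le T
        (ProductFusion.isPGroup_pair hx hy (congrArg Subtype.val hxy))
      have hm : ∀ w : X₀, orderOf (w : G) = 2 → g * w * g⁻¹ ∈ (T : Subgroup G) →
          g * w * g⁻¹ ∈ S := fun w hw hT => hinS _ hT
        (hXn.conj_mem _ (hX₀X w.2) g) ((Basic.orderOf_conj_eq g _).trans hw)
      have hxS := hm x hx (hg _ (Subgroup.mem_sup_left (Subgroup.mem_zpowers _)))
      have hyS := hm y hy (hg _ (Subgroup.mem_sup_right (Subgroup.mem_zpowers _)))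
      set A := Subgroup.closure ({⟨_, hxS⟩, ⟨_, hyS⟩} : Set S) with hA
      have hcomm : ∀ p ∈ ({⟨_, hxS⟩, ⟨_, hyS⟩} : Set S), ∀ r ∈ ({⟨_, hxS⟩, ⟨_, hyS⟩} : Set S),
          p * r = r * p := by
        have hxy' : (x : G) * y = y * x := congrArg Subtype.val hxy
        intro p hp r hr
        rcases hp with rfl | rfl <;> rcases hr with rfl | rfl
        · rfl
        · refine Subtype.ext ?_
          show g * x * g⁻¹ * (g * y * g⁻¹) = g * y * g⁻¹ * (g * x * g⁻¹)
          calc g * x * g⁻¹ * (g * y * g⁻¹) = g * (x * y) * g⁻¹ := by group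
            _ = g * (y * x) * g⁻¹ := by rw [hxy']
            _ = _ := by group
        · refine Subtype.ext ?_
          show g * y * g⁻¹ * (g * x * g⁻¹) = g * x * g⁻¹ * (g * y * g⁻¹)
          calc g * y * g⁻¹ * (g * x * g⁻¹) = g * (y * x) * g⁻¹ := by group
            _ = g * (x * y) * g⁻¹ := by rw [hxy']
            _ = _ := by group
        · rfl
      haveI := Subgroup.isMulCommutative_closure hcomm
      have hexp : ∀ p ∈ A, p ^ 2 = 1 := by
        intro p hp
        induction hp using Subgroup.closure_induction with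
        | mem p hp =>
          rcases hp with rfl | rfl
          · exact Subtype.ext (show (g * x * g⁻¹) ^ 2 = 1 by
              rw [← Basic.orderOf_conj_eq g (x : G)] at hx; rw [← hx, pow_orderOf_eq_one])
          · exact Subtype.ext (show (g * y * g⁻¹) ^ 2 = 1 by
              rw [← Basic.orderOf_conj_eq g (y : G)] at hy; rw [← hy, pow_orderOf_eq_one])
        | one => exact one_pow 2
        | mul p r hp hr hp2 hr2 =>
          have hc : Commute p r := congrArg Subtype.val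
            (mul_comm' (⟨p, hp⟩ : A) ⟨r, hr⟩)
          rw [hc.mul_pow, hp2, hr2, one_mul]
        | inv p _ hp2 => rw [inv_pow, hp2, inv_one]
      have hcard := hrank A inferInstance hexp
      have hsub : ({1, ⟨_, hxS⟩, ⟨_, hyS⟩} : Set S) ⊆ (A : Set S) := by
        rintro p (rfl | rfl | rfl)
        · exact one_mem A
        · exact Subgroup.subset_closure (by simp)
        · exact Subgroup.subset_closure (by simp)
      have h3 : ({1, ⟨_, hxS⟩, ⟨_, hyS⟩} : Set S).ncard = 3 := by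
        rw [Set.ncard_eq_three]
        refine ⟨_, _, _, ?_, ?_, ?_, rfl⟩
        · intro e
          refine hx1 (Subtype.ext ?_)
          exact conj_eq_one_iff.1 (congrArg Subtype.val e).symm
        · intro e
          refine hy1 (Subtype.ext ?_)
          exact conj_eq_one_iff.1 (congrArg Subtype.val e).symm
        · intro e
          refine hne (Subtype.ext ?_)
          exact (MulAut.conj g).injective (congrArg Subtype.val e)
      have h4 := Set.ncard_le_ncard hsub (Set.toFinite _)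
      rw [h3, ← Nat.card_coe_set_eq] at h4
      have : Nat.card (A : Set S) = Nat.card A := rfl
      omega
  · have hgen : X₀ = Subgroup.closure {y : G | y ∈ X₀ ∧ orderOf y = 2} := le_antisymm
      ((Subgroup.closure_le _).2 fun y hy =>
        Subgroup.subset_closure ⟨Subgroup.subset_closure hy, hy.1⟩)
      ((Subgroup.closure_le _).2 fun y hy => hy.1)
    have hpair := inf_le_pair T h2 (fun _ _ ha hb => StronglyEmbedded.isConj_involutions hSE ha hb)
      hgen hz hzX₀ (hsc.1 hzS)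
    have huniq : ∀ x ∈ S, orderOf x = 2 → x = z := by
      intro x hx hx2
      refine (hpair x (Subgroup.mem_inf.2 ⟨hsc.1 hx, ?_⟩)).resolve_left (Basic.invol_ne_one hx2)
      exact Subgroup.subset_closure ⟨hx2, 1, by simpa using hx⟩
    have heq : S = (T : Subgroup G) ⊓ X :=
      le_antisymm (le_inf hsc.1 hSX) (sylow_of_isolated T hsc hzS hz huniq)
    refine ⟨first ?_, Or.inl heq, fun _ => heq⟩
    intro y hy hy2
    obtain ⟨g, hg⟩ := ProductFusion.exists_conj_le T
      (IsPGroup.of_card (n := 1) (p := 2) (G := ↥(Subgroup.zpowers y))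
        (by rw [Nat.card_zpowers, hy2, pow_one]))
    refine ⟨hy2, g, ?_⟩
    rw [heq]
    exact Subgroup.mem_inf.2 ⟨hg y (Subgroup.mem_zpowers y), hXn.conj_mem y hy g⟩

end Cfsg.Agent.Lib.Crit59.Row3289
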