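import Cfsg.Agent.Lib.Crit59.Setting
import Cfsg.Agent.Lib.Involutions.StronglyEmbedded
import Cfsg.Agent.Lib.PGroups.Omega
import Cfsg.Prelude.Def_TwoFusion

/-!
# Strongly closed 2-subgroups with all centralisers in a proper subgroup

`D` is the set of involutions conjugate into the strongly closed subgroup `S`.  If `H` contains
`N(T)` and the centralisers of the involutions of `S` then every member of `D` fixes one point of
`G/H` only, and the product of two commuting members at one point is again conjugate into `S`.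
-/

set_option autoImplicit false
set_option linter.style.haveILetI false

universe u

namespace Cfsg.Agent.Lib.Crit59

open Cfsg.Agent.Lib.Involutions

variable {G : Type u} [Group G] [Finite G]

/-- The involutions conjugate into `S`. -/
def invClosure (S : Subgroup G) : Set G :=
  {x : G | orderOf x = 2 ∧ ∃ g : G, g * x * g⁻¹ ∈ S}

omit [Finite G] in
/-- The normaliser of `T` normalises a subgroup strongly closed in `T`. -/
theorem normalizer_le_of_closed {T S : Subgroup G} (hsc : Cfsg.IsStronglyClosed S T) :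
    Subgroup.normalizer (T : Set G) ≤ Subgroup.normalizer (S : Set G) := by
  intro n hn
  refine Subgroup.mem_normalizer_iff.2 fun x => ⟨fun hx => ?_, fun hx => ?_⟩
  · exact hsc.2 x hx n ((Subgroup.mem_normalizer_iff.1 hn x).1 (hsc.1 hx))
  · have hx' : n⁻¹ * (n * x * n⁻¹) * n⁻¹⁻¹ = x := by group
    have := hsc.2 _ hx n⁻¹ ((Subgroup.mem_normalizer_iff.1 (inv_mem hn) _).1 (hsc.1 hx))
    rwa [hx'] at this

/-- A nontrivial subgroup strongly closed in a Sylow `2`-subgroup contains a central involution. -/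
theorem exists_central_invol (T : Sylow 2 G) {S : Subgroup G} (hS : S ≠ ⊥)
    (hsc : Cfsg.IsStronglyClosed S (T : Subgroup G)) :
    ∃ z : G, z ∈ S ∧ orderOf z = 2 ∧
      (T : Subgroup G) ≤ Subgroup.centralizer ({z} : Set G) := by
  haveI : Fact (Nat.Prime 2) := ⟨Nat.prime_two⟩
  set T' := (T : Subgroup G) with hT'
  haveI : Finite T' := inferInstance
  have hp : IsPGroup 2 T' := T.2
  haveI hn : (S.subgroupOf T').Normal :=
    Subgroup.normal_subgroupOf_of_le_normalizer
      (Subgroup.le_normalizer.trans (normalizer_le_of_closed hsc))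
  haveI : Nontrivial (S.subgroupOf T') := by
    rw [Subgroup.nontrivial_iff_ne_bot, Ne, Subgroup.subgroupOf_eq_bot, disjoint_iff]
    intro h
    exact hS (by rwa [inf_eq_left.2 hsc.1] at h)
  have hne : S.subgroupOf T' ⊓ Subgroup.center T' ≠ ⊥ :=
    PGroups.normal_inf_center_ne_bot hp (S.subgroupOf T')
      ((Subgroup.nontrivial_iff_ne_bot _).1 inferInstance)
  haveI : Nontrivial ↥(S.subgroupOf T' ⊓ Subgroup.center T') :=
    (Subgroup.nontrivial_iff_ne_bot _).2 hne
  obtain ⟨n, hn1⟩ := IsPGroup.exists_card_eq (hp.to_subgroup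
    (S.subgroupOf T' ⊓ Subgroup.center T'))
  have hn0 : n ≠ 0 := fun h => by
    have := Finite.one_lt_card (α := ↥(S.subgroupOf T' ⊓ Subgroup.center T'))
    rw [hn1, h] at this; exact absurd this (by norm_num)
  obtain ⟨w, hw⟩ := Basic.exists_invol (G := ↥(S.subgroupOf T' ⊓ Subgroup.center T'))
    (by rw [hn1]; exact (Nat.even_pow' hn0).2 even_two)
  refine ⟨((w : T') : G), w.2.1, ?_, ?_⟩
  · rw [Subgroup.orderOf_coe, Subgroup.orderOf_coe, hw]
  · intro t ht
    exact Subgroup.mem_centralizer_singleton_iff.2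
      (congrArg Subtype.val (Subgroup.mem_center_iff.1 w.2.2 ⟨t, ht⟩))

section

variable (T : Sylow 2 G) {S H : Subgroup G} (hsc : Cfsg.IsStronglyClosed S (T : Subgroup G))
  (hC : ∀ s ∈ S, orderOf s = 2 → Subgroup.centralizer ({s} : Set G) ≤ H)
  (hN : Subgroup.normalizer ((T : Subgroup G) : Set G) ≤ H)

include hN in
/-- Sylow's theorem in `H`, for a Sylow subgroup of `G` inside `H`. -/
theorem sylow_conj_in {U : Sylow 2 G} (hU : (U : Subgroup G) ≤ H) :
    ∃ h ∈ H, ∀ x : G, x ∈ (U : Subgroup G) → h * x * h⁻¹ ∈ (T : Subgroup G) := by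
  haveI : Fact (Nat.Prime 2) := ⟨Nat.prime_two⟩
  have hT : (T : Subgroup G) ≤ H := Subgroup.le_normalizer.trans hN
  obtain ⟨h, hh⟩ := MulAction.exists_smul_eq H (U.subtype hU) (T.subtype hT)
  refine ⟨h, h.2, fun x hx => ?_⟩
  have h2 : h * ⟨x, hU hx⟩ * h⁻¹ ∈ (T.subtype hT : Subgroup H) := by
    rw [← hh, Sylow.coe_subgroup_smul]
    exact Subgroup.smul_mem_pointwise_smul (a := MulAut.conj h) (⟨x, hU hx⟩ : H)
      (U.subtype hU : Subgroup H) (Subgroup.mem_subgroupOf.2 hx)
  exact Subgroup.mem_subgroupOf.1 h2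

include hN hsc in
/-- An involution of `H` conjugate into `S` is conjugate into `S` inside `H`. -/
theorem conj_into {d : G} (hd : d ∈ invClosure S) (hdH : d ∈ H) :
    ∃ h ∈ H, h * d * h⁻¹ ∈ S := by
  haveI : Fact (Nat.Prime 2) := ⟨Nat.prime_two⟩
  have hT : (T : Subgroup G) ≤ H := Subgroup.le_normalizer.trans hN
  obtain ⟨h, hh⟩ := StronglyEmbedded.exists_conj_mem_of_sylow (G := H) (H := (T : Subgroup G).subgroupOf H)
    (P := T.subtype hT) le_rfl (u := ⟨d, hdH⟩)
    ((orderOf_injective H.subtype H.subtype_injective _).symm.trans hd.1)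
  refine ⟨h, h.2, ?_⟩
  obtain ⟨g, hg⟩ := hd.2
  have he : g * d * g⁻¹ ∈ S := hg
  have h1 : (h : G) * d * (h : G)⁻¹ =
      (h : G) * g⁻¹ * (g * d * g⁻¹) * ((h : G) * g⁻¹)⁻¹ := by group
  have h2 : (h : G) * d * (h : G)⁻¹ ∈ (T : Subgroup G) := hh
  rw [h1] at h2 ⊢
  exact hsc.2 _ he _ h2

include hC hN hsc in
theorem fix_central {z : G} (hzS : z ∈ S) (hz : orderOf z = 2)
    (hTz : (T : Subgroup G) ≤ Subgroup.centralizer ({z} : Set G)) :
    ∀ g : G, g * z * g⁻¹ ∈ H → g ∈ H := by
  haveI : Fact (Nat.Prime 2) := ⟨Nat.prime_two⟩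
  have key : ∀ g : G, g * z * g⁻¹ ∈ S → g ∈ H := by
    intro g hg
    have hle : ((g • T : Sylow 2 G) : Subgroup G) ≤
        Subgroup.centralizer ({g * z * g⁻¹} : Set G) := by
      intro x hx
      rw [Sylow.coe_subgroup_smul] at hx
      obtain ⟨t, ht, rfl⟩ := hx
      refine Subgroup.mem_centralizer_singleton_iff.2 ?_
      have := Subgroup.mem_centralizer_singleton_iff.1 (hTz ht)
      show g * t * g⁻¹ * (g * z * g⁻¹) = g * z * g⁻¹ * (g * t * g⁻¹)
      calc g * t * g⁻¹ * (g * z * g⁻¹) = g * (t * z) * g⁻¹ := by group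
        _ = g * (z * t) * g⁻¹ := by rw [this]
        _ = g * z * g⁻¹ * (g * t * g⁻¹) := by group
    obtain ⟨h, hh, hconj⟩ := sylow_conj_in T hN
      (hle.trans (hC _ hg ((Basic.orderOf_conj_eq g z).trans hz)))
    have hn : h * g ∈ Subgroup.normalizer ((T : Subgroup G) : Set G) := by
      refine Subgroup.mem_normalizer_iff.2 fun x => ?_
      have hfwd : ∀ x ∈ (T : Subgroup G), h * g * x * (h * g)⁻¹ ∈ (T : Subgroup G) := by
        intro x hx
        rw [← conj_conj]
        refine hconj _ ?_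
        rw [Sylow.coe_subgroup_smul]
        exact Subgroup.smul_mem_pointwise_smul (a := MulAut.conj g) x (T : Subgroup G) hx
      refine ⟨hfwd x, fun hx => ?_⟩
      let f : ↥(T : Subgroup G) → ↥(T : Subgroup G) :=
        fun y => ⟨h * g * (y : G) * (h * g)⁻¹, hfwd y y.2⟩
      have hinj : Function.Injective f := fun a b hab => by
        have h' : h * g * (a : G) * (h * g)⁻¹ = h * g * (b : G) * (h * g)⁻¹ :=
          congrArg Subtype.val hab
        exact Subtype.ext (mul_left_cancel (mul_right_cancel h'))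
      obtain ⟨y, hy⟩ := (Finite.injective_iff_surjective.1 hinj) ⟨_, hx⟩
      have hy' : h * g * (y : G) * (h * g)⁻¹ = h * g * x * (h * g)⁻¹ := congrArg Subtype.val hy
      have hxy : (y : G) = x := mul_left_cancel (mul_right_cancel hy')
      exact hxy ▸ y.2
    simpa using mul_mem (inv_mem hh) (hN hn)
  intro g hg
  obtain ⟨h, hh, hs⟩ := conj_into T hsc hN (d := g * z * g⁻¹)
    ⟨(Basic.orderOf_conj_eq g z).trans hz, g⁻¹, by simpa [mul_assoc] using hzS⟩ hg
  rw [conj_conj] at hs
  simpa using mul_mem (inv_mem hh) (key _ hs)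

include hC hN hsc in
/-- The strongly closed subgroup gives a setting of the criterion. -/
theorem setting_closed (hS : S ≠ ⊥) (hH : H ≠ ⊤) : Setting H (invClosure S) := by
  haveI : Fact (Nat.Prime 2) := ⟨Nat.prime_two⟩
  have hTH : (T : Subgroup G) ≤ H := Subgroup.le_normalizer.trans hN
  obtain ⟨z, hzS, hz, hTz⟩ := exists_central_invol T hS hsc
  have hzH : z ∈ H := hTH (hsc.1 hzS)
  have hfz := fix_central T hsc hC hN hzS hz hTz
  have hZ := setting_conjClass T hz hTz hH hzH hfz
  have hfs : ∀ s ∈ S, orderOf s = 2 → ∀ g : G, g * s * g⁻¹ ∈ H → g ∈ H := by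
    intro s hs hs2 g hg
    have hsH : s ∈ H := hTH (hsc.1 hs)
    have hww := Basic.invol_mul_self ((Basic.orderOf_conj_eq g s).trans hs2)
    obtain ⟨⟨d, hd, hdH⟩, hdd⟩ := exists_fixed_of_odd hZ.odd
      (fun d => ⟨g * s * g⁻¹ * d.1 * (g * s * g⁻¹)⁻¹, hZ.conj _ d.2.1 _,
        mul_mem (mul_mem hg d.2.2) (inv_mem hg)⟩)
      (fun d => Subtype.ext (by
        show g * s * g⁻¹ * (g * s * g⁻¹ * d.1 * (g * s * g⁻¹)⁻¹) * (g * s * g⁻¹)⁻¹ = d.1
        rw [conj_conj, hww]; simp))
    have h1 : g * s * g⁻¹ * d * (g * s * g⁻¹)⁻¹ = d := congrArg Subtype.val hdd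
    have h2 : g * s * g⁻¹ * d = d * (g * s * g⁻¹) := mul_inv_eq_iff_eq_mul.1 h1
    have h3 : g⁻¹ * d * g⁻¹⁻¹ ∈ H := by
      refine hC s hs hs2 (Subgroup.mem_centralizer_singleton_iff.2 ?_)
      calc g⁻¹ * d * g⁻¹⁻¹ * s = g⁻¹ * (d * (g * s * g⁻¹)) * g := by group
        _ = g⁻¹ * (g * s * g⁻¹ * d) * g := by rw [h2]
        _ = s * (g⁻¹ * d * g⁻¹⁻¹) := by group
    simpa using inv_mem (hZ.fix d hd hdH _ h3)
  refine ⟨hH, fun d hd => hd.1, ?_, ?_, ?_, ?_⟩
  · rintro d ⟨hd, a, ha⟩ g
    exact ⟨(Basic.orderOf_conj_eq g d).trans hd, a * g⁻¹, by simpa [mul_assoc] using ha⟩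
  · rintro d ⟨-, a, ha⟩
    exact ⟨a, hTH (hsc.1 ha)⟩
  · intro d hd hdH g hg
    obtain ⟨h, hh, hs⟩ := conj_into T hsc hN hd hdH
    have hm : g * h⁻¹ * (h * d * h⁻¹) * (g * h⁻¹)⁻¹ ∈ H := by
      convert hg using 1; group
    simpa using mul_mem (hfs _ hs ((Basic.orderOf_conj_eq h d).trans hd.1) _ hm) hh
  · -- the fixed points of `T` are the involutions of the center of `T` in `S`
    let X : Type u := {d : G // d ∈ invClosure S ∧ d ∈ H}
    letI act : MulAction ↥(T : Subgroup G) X :=
      { smul := fun t d => ⟨(t : G) * d.1 * (t : G)⁻¹,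
          ⟨⟨(Basic.orderOf_conj_eq _ _).trans d.2.1.1, d.2.1.2.choose * (t : G)⁻¹, by
            simpa [mul_assoc] using d.2.1.2.choose_spec⟩,
            mul_mem (mul_mem (hTH t.2) d.2.2) (inv_mem (hTH t.2))⟩⟩
        one_smul := fun d => Subtype.ext (show (1 : G) * d.1 * 1⁻¹ = d.1 by group)
        mul_smul := fun a b d => Subtype.ext (show (a * b : G) * d.1 * (a * b : G)⁻¹ =
          (a : G) * ((b : G) * d.1 * (b : G)⁻¹) * (a : G)⁻¹ by group) }
    let W : Subgroup G := S ⊓ Subgroup.centralizer ((T : Subgroup G) : Set G)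
    have hfix : ∀ d : X, d ∈ MulAction.fixedPoints (T : Subgroup G) X ↔
        d.1 ∈ W := by
      intro d
      constructor
      · intro hd
        have hcomm : ∀ t ∈ (T : Subgroup G), t * d.1 = d.1 * t := fun t ht => by
          have h1 : t * d.1 * t⁻¹ = d.1 := congrArg Subtype.val (hd ⟨t, ht⟩)
          exact mul_inv_eq_iff_eq_mul.1 h1
        have hdT : d.1 ∈ (T : Subgroup G) := by
          by_contra hnot
          have hle : Subgroup.zpowers d.1 ≤
              Subgroup.normalizer ((T : Subgroup G) : Set G) := by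
            rw [Subgroup.zpowers_le]
            refine Subgroup.mem_normalizer_iff.2 fun x => ⟨fun hx => ?_, fun hx => ?_⟩
            · rw [← hcomm x hx, mul_inv_cancel_right]; exact hx
            · have h1 := hcomm _ hx
              have h2 : d.1 * x * d.1⁻¹ = x := by
                calc d.1 * x * d.1⁻¹ = d.1⁻¹ * (d.1 * x * d.1⁻¹ * d.1) := by
                      rw [h1]; group
                  _ = d.1⁻¹ * d.1 * x := by group
                  _ = x := by group
              rwa [h2] at hx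
          have hp : IsPGroup 2 ↥((T : Subgroup G) ⊔ Subgroup.zpowers d.1) :=
            IsPGroup.to_sup_of_normal_left' T.2
              (IsPGroup.of_card (n := 1) (by rw [Nat.card_zpowers, d.2.1.1, pow_one])) hle
          exact hnot ((T.3 hp le_sup_left) ▸
            Subgroup.mem_sup_right (Subgroup.mem_zpowers d.1))
        obtain ⟨a, ha⟩ := d.2.1.2
        have hdS : d.1 ∈ S := by
          have e : a⁻¹ * (a * d.1 * a⁻¹) * a⁻¹⁻¹ = d.1 := by group
          have := hsc.2 _ ha a⁻¹ (e.symm ▸ hdT)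
          rwa [e] at this
        exact Subgroup.mem_inf.2 ⟨hdS, Subgroup.mem_centralizer_iff.2 hcomm⟩
      · intro hd t
        refine Subtype.ext ?_
        show (t : G) * d.1 * (t : G)⁻¹ = d.1
        rw [Subgroup.mem_centralizer_iff.1 hd.2 t t.2, mul_inv_cancel_right]
    have hcard : Nat.card (MulAction.fixedPoints (T : Subgroup G) X) =
        Nat.card {w : W // orderOf w = 2} :=
      Nat.card_congr
        { toFun := fun d => ⟨⟨d.1.1, (hfix d.1).1 d.2⟩, by
            rw [← Subgroup.orderOf_coe]; exact d.1.2.1.1⟩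
          invFun := fun w => ⟨⟨w.1.1, ⟨(Subgroup.orderOf_coe _).trans w.2, 1, by
              simpa using w.1.2.1⟩, hTH (hsc.1 w.1.2.1)⟩, (hfix _).2 w.1.2⟩
          left_inv := fun d => rfl
          right_inv := fun w => rfl }
    have hev : Even (Nat.card W) := by
      have hzW : z ∈ W := Subgroup.mem_inf.2 ⟨hzS, Subgroup.mem_centralizer_iff.2
        fun t ht => Subgroup.mem_centralizer_singleton_iff.1 (hTz ht)⟩
      have hz' : orderOf (⟨z, hzW⟩ : W) = 2 :=
        (orderOf_injective W.subtype W.subtype_injective _).symm.trans hz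
      exact even_iff_two_dvd.2 (hz' ▸ orderOf_dvd_natCard _)
    have hodd := Basic.odd_card_invol hev
    have hmod : Nat.card X ≡ Nat.card (MulAction.fixedPoints (T : Subgroup G) X) [MOD 2] :=
      IsPGroup.card_modEq_card_fixedPoints T.2 X
    rw [hcard] at hmod
    show Odd (Nat.card X)
    rw [Nat.odd_iff] at hodd ⊢
    rw [hmod]
    exact hodd

include hN hsc in
/-- Two commuting members at the base point have a member as product. -/
theorem prodClosed_closed : ProdClosed H (invClosure S) := by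
  haveI : Fact (Nat.Prime 2) := ⟨Nat.prime_two⟩
  have hTH : (T : Subgroup G) ≤ H := Subgroup.le_normalizer.trans hN
  intro d e hd hdH he heH hde hne
  -- a Sylow subgroup of `H` containing both
  have hp : IsPGroup 2 ↥(Subgroup.zpowers (⟨d, hdH⟩ : H) ⊔ Subgroup.zpowers (⟨e, heH⟩ : H)) := by
    refine IsPGroup.to_sup_of_normal_left'
      (IsPGroup.of_card (n := 1) (by
        rw [Nat.card_zpowers, ← orderOf_injective H.subtype H.subtype_injective]
        simpa using hd.1))
      (IsPGroup.of_card (n := 1) (by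
        rw [Nat.card_zpowers, ← orderOf_injective H.subtype H.subtype_injective]
        simpa using he.1)) ?_
    refine le_trans ?_ (Subgroup.centralizer_le_normalizer (Subgroup.zpowers (⟨d, hdH⟩ : H) : Set H))
    rw [Subgroup.zpowers_le]
    refine Subgroup.mem_centralizer_iff.2 fun x hx => ?_
    obtain ⟨k, rfl⟩ := Subgroup.mem_zpowers_iff.1 hx
    exact ((show Commute (⟨d, hdH⟩ : H) ⟨e, heH⟩ from Subtype.ext hde.eq).zpow_left k).eq
  obtain ⟨Q, hQ⟩ := hp.exists_le_sylow
  obtain ⟨h, hh⟩ := MulAction.exists_smul_eq H Q (T.subtype hTH)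
  have mv : ∀ x : H, x ∈ (Q : Subgroup H) → (x : G) ∈ invClosure S →
      (h : G) * x * (h : G)⁻¹ ∈ S := by
    intro x hx hxD
    have h2 : h * x * h⁻¹ ∈ (T.subtype hTH : Subgroup H) := by
      rw [← hh, Sylow.coe_subgroup_smul]
      exact Subgroup.smul_mem_pointwise_smul (a := MulAut.conj h) x (Q : Subgroup H) hx
    obtain ⟨a, ha⟩ := hxD.2
    have e : (h : G) * a⁻¹ * (a * x * a⁻¹) * ((h : G) * a⁻¹)⁻¹ = (h : G) * x * (h : G)⁻¹ := by
      group
    have := hsc.2 _ ha ((h : G) * a⁻¹) (e.symm ▸ Subgroup.mem_subgroupOf.1 h2)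
    rwa [e] at this
  have h1 := mv ⟨d, hdH⟩ (hQ (Subgroup.mem_sup_left (Subgroup.mem_zpowers _))) hd
  have h2 := mv ⟨e, heH⟩ (hQ (Subgroup.mem_sup_right (Subgroup.mem_zpowers _))) he
  have h3 : (h : G) * (d * e) * (h : G)⁻¹ ∈ S := by
    convert mul_mem h1 h2 using 1; group
  have h4 : orderOf ((h : G) * (d * e) * (h : G)⁻¹) = 2 := by
    rw [Basic.orderOf_conj_eq, Basic.invol_iff]
    refine ⟨?_, fun hc => hne ((mul_eq_one_iff_eq_inv.1 hc).trans (Basic.invol_inv he.1))⟩
    calc d * e * (d * e) = d * e * (e * d) := by rw [hde.eq]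
      _ = d * (e * e) * d := by group
      _ = 1 := by rw [Basic.invol_mul_self he.1, mul_one, Basic.invol_mul_self hd.1]
  exact ⟨(Basic.orderOf_conj_eq _ _).symm.trans h4, (h : G), h3⟩

include hC hN hsc in
/-- The criterion for strongly closed subgroups. -/
theorem main_closed (hcrit : CritProp.{u}) (hS : S ≠ ⊥) (hH : H ≠ ⊤) :
    Cfsg.IsStronglyEmbedded (H.subgroupOf (Subgroup.closure (invClosure S))) :=
  hcrit G H _ (setting_closed T hsc hC hN hS hH) (Or.inr (prodClosed_closed T hsc hN))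

end

/-- The conclusion of S1174. -/
theorem row1174 (hcrit : CritProp.{u}) [IsSimpleGroup G] (S : Sylow 2 G) (T : Subgroup G)
    (hT1 : T ≠ ⊥) (hT : Cfsg.IsStronglyClosed T (S : Subgroup G))
    (hprop : (⨆ t : {t : G // t ∈ T ∧ orderOf t = 2},
      Subgroup.centralizer ({(t : G)} : Set G)) ≠ ⊤) :
    ∃ H : Subgroup G, Cfsg.IsStronglyEmbedded H := by
  set M : Subgroup G := ⨆ t : {t : G // t ∈ T ∧ orderOf t = 2},
    Subgroup.centralizer ({(t : G)} : Set G) with hMd
  have hC : ∀ s ∈ T, orderOf s = 2 → Subgroup.centralizer ({s} : Set G) ≤ M := fun s hs h2 =>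
    le_iSup (fun t : {t : G // t ∈ T ∧ orderOf t = 2} =>
      Subgroup.centralizer ({(t : G)} : Set G)) ⟨s, hs, h2⟩
  obtain ⟨z, hzT, hz, hSz⟩ := exists_central_invol S hT1 hT
  have hMne : M ≠ ⊥ := fun h => Basic.invol_ne_one hz (Subgroup.mem_bot.1
    (h ▸ hC z hzT hz (Subgroup.mem_centralizer_singleton_iff.2 rfl)))
  have hN : Subgroup.normalizer ((S : Subgroup G) : Set G) ≤
      Subgroup.normalizer (M : Set G) := by
    have hmap : ∀ n ∈ Subgroup.normalizer ((S : Subgroup G) : Set G), ∀ x ∈ M,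
        n * x * n⁻¹ ∈ M := by
      intro n hn
      suffices M ≤ M.comap (MulAut.conj n).toMonoidHom from fun x hx => by simpa using this hx
      refine iSup_le fun t x hx => ?_
      show n * x * n⁻¹ ∈ M
      refine hC (n * (t : G) * n⁻¹)
        ((Subgroup.mem_normalizer_iff.1 (normalizer_le_of_closed hT hn) _).1 t.2.1)
        ((Basic.orderOf_conj_eq n (t : G)).trans t.2.2)
        (Subgroup.mem_centralizer_singleton_iff.2 ?_)
      have hxt := Subgroup.mem_centralizer_singleton_iff.1 hx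
      calc n * x * n⁻¹ * (n * (t : G) * n⁻¹) = n * (x * (t : G)) * n⁻¹ := by group
        _ = n * ((t : G) * x) * n⁻¹ := by rw [hxt]
        _ = n * (t : G) * n⁻¹ * (n * x * n⁻¹) := by group
    intro n hn
    exact Subgroup.mem_normalizer_iff.2 fun x => ⟨hmap n hn x, fun hx => by
      have := hmap n⁻¹ (inv_mem hn) _ hx
      simpa [mul_assoc] using this⟩
  have hH : Subgroup.normalizer (M : Set G) ≠ ⊤ := fun h =>
    (Subgroup.Normal.eq_bot_or_eq_top (Subgroup.normalizer_eq_top_iff.1 h)).elim hMne hprop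
  have key := main_closed S hT (fun s hs h2 => (hC s hs h2).trans Subgroup.le_normalizer) hN hcrit
    hT1 hH
  have htop : Subgroup.closure (invClosure T) = ⊤ := by
    haveI : (Subgroup.closure (invClosure T)).Normal := by
      refine ⟨fun x hx g => ?_⟩
      have := Subgroup.closure_le ((Subgroup.closure (invClosure T)).comap
        (MulAut.conj g).toMonoidHom) |>.2 ?_ hx
      · simpa using this
      rintro y ⟨hy, a, ha⟩
      exact Subgroup.subset_closure ⟨(Basic.orderOf_conj_eq g y).trans hy, a * g⁻¹, by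
        simpa [mul_assoc] using ha⟩
    refine (Subgroup.Normal.eq_bot_or_eq_top inferInstance).resolve_left fun h => ?_
    exact Basic.invol_ne_one hz (Subgroup.mem_bot.1 (h ▸ Subgroup.subset_closure
      (⟨hz, 1, by simpa using hzT⟩ : z ∈ invClosure T)))
  rw [htop] at key
  exact ⟨_, Transport.of_subgroupOf_top key⟩

end Cfsg.Agent.Lib.Crit59
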