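import Cfsg.Agent.Lib.Crit5.Interface
import Cfsg.Agent.Lib.Crit8.Prod.Quot
import Cfsg.Agent.Lib.Crit59.Closed

/-!
# The single fixed point criterion: assembly

From `PropCore` (no bad involution in an action generated by its members) and the kernel property
(`PropKernel`) both forms of the criterion, `CritProp` and `CritFaithful`, follow.  The product case
is an induction on the order: in a core free group the local group of a bad involution is proper and
product closed, so its quotient by the core has a strongly embedded subgroup and the core is odd.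
-/

set_option autoImplicit false
set_option linter.style.haveILetI false

universe u

namespace Cfsg.Agent.Lib.Crit59.Assembly

open Subgroup MulAction
open Cfsg.Agent.Lib.Involutions
open Cfsg.Agent.Lib.Crit8 (part hbar dbar loc)

/-- The kernel property of the product closed case. -/
def PropKernel.{w} : Prop :=
  ∀ (G : Type w) [Group G] [Finite G] (H : Subgroup G) (D : Set G),
    Setting H D → ProdClosed H D → Subgroup.closure D = ⊤ →
      Cfsg.IsStronglyEmbedded (hbar H) → Odd (Nat.card H.normalCore)

variable {G : Type u} [Group G]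

theorem closure_part_closure {E : Set G} :
    closure (part (closure E) E) = ⊤ :=
  map_injective (closure E).subtype_injective (by
    rw [Crit8.map_closure_part subset_closure, ← MonoidHom.range_eq_map, range_subtype])

theorem prodClosed_restrict {H : Subgroup G} {D : Set G} (hC : ProdClosed H D) {K : Subgroup G} :
    ProdClosed (H.subgroupOf K) (part K D) :=
  fun d e hd hdH he heH hc hne =>
    hC d e hd hdH he heH (congrArg Subtype.val hc.eq) fun h => hne (Subtype.ext h)

variable [Finite G]

/-- The local hypothesis inside the group generated by the members. -/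
theorem localHyp_closure {H : Subgroup G} {D : Set G} (hL : LocalHyp H D) :
    LocalHyp (H.subgroupOf (closure D)) (part (closure D) D) := by
  intro u hu huH hbad
  obtain ⟨g, hg, hgH⟩ := hbad
  have key := hL (u : G) (by rw [Subgroup.orderOf_coe, hu]) huH ⟨g, hg, hgH⟩
  set M := closure {x : G | x ∈ D ∧ x * u = u * x} with hM
  set L := closure {x : (closure D) | x ∈ part (closure D) D ∧ x * u = u * x} with hLdef
  have hLM : L.map (closure D).subtype = M := by
    rw [hLdef, hM, MonoidHom.map_closure]
    congr 1
    ext x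
    constructor
    · rintro ⟨y, ⟨hy, hyu⟩, rfl⟩
      exact ⟨hy, congrArg Subtype.val hyu⟩
    · rintro ⟨hx, hxu⟩
      exact ⟨⟨x, subset_closure hx⟩, ⟨hx, Subtype.ext hxu⟩, rfl⟩
  exact Transport.of_equiv
    ((L.equivMapOfInjective (closure D).subtype (closure D).subtype_injective).trans (MulEquiv.subgroupCongr hLM))
    (fun x => Iff.rfl) key

/-- The criterion under the local hypothesis when the members generate. -/
theorem stronglyEmbedded_of_localHyp_top (hcore : Crit5.PropCore.{u}) {H : Subgroup G} {D : Set G}
    (hS : Setting H D) (hL : LocalHyp H D) (htop : closure D = ⊤) :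
    Cfsg.IsStronglyEmbedded H := by
  obtain ⟨d, hd, hdH⟩ := Crit8.nonempty_of_setting hS
  have hA := Crit8.action_of_setting hS hL ⟨d, hd⟩
  refine StronglyEmbedded.of_forall_conj hS.ne_top ?_ fun t htH ht g hg => ?_
  · exact even_iff_two_dvd.2 (hS.invol d hd ▸ Subgroup.orderOf_dvd_natCard _ hdH)
  · by_contra hgH
    refine hcore G (G ⧸ H) D hA htop t ⟨ht, ((1 : G) : G ⧸ H), ((g⁻¹ : G) : G ⧸ H),
      fun e => hgH ?_, ?_, ?_⟩
    · simpa using (QuotientGroup.eq.1 e)
    · exact Crit8.smul_mk_eq_iff.2 (by simpa using htH)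
    · exact Crit8.smul_mk_eq_iff.2 (by simpa using hg)

/-- The criterion under the local hypothesis. -/
theorem critLocal (hcore : Crit5.PropCore.{u}) {H : Subgroup G} {D : Set G} (hS : Setting H D)
    (hL : LocalHyp H D) : Cfsg.IsStronglyEmbedded (H.subgroupOf (closure D)) :=
  stronglyEmbedded_of_localHyp_top hcore (Crit8.setting_closure hS) (localHyp_closure hL)
    closure_part_closure

/-- Strong embedding lifts through an odd core. -/
theorem lift_odd {H : Subgroup G} (hodd : Odd (Nat.card H.normalCore))
    (hne : H ≠ ⊤) (hev : Even (Nat.card H)) (hSE : Cfsg.IsStronglyEmbedded (hbar H)) :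
    Cfsg.IsStronglyEmbedded H := by
  refine StronglyEmbedded.of_forall_conj hne hev fun t htH ht g hg => ?_
  refine Crit8.mem_hbar.1 (StronglyEmbedded.mem_of_conj_mem hSE
    (t := QuotientGroup.mk' H.normalCore t) ?_ (Crit8.mem_hbar.2 htH) ?_)
  · refine Basic.invol_iff.2 ⟨by rw [← map_mul, Basic.invol_mul_self ht, map_one], fun e => ?_⟩
    exact (Basic.odd_card_iff_no_invol _).1 hodd t ((QuotientGroup.eq_one_iff t).1 e) ht
  · rw [← map_inv, ← map_mul, ← map_mul]
    exact Crit8.mem_hbar.2 hg

omit [Finite G] in
theorem closure_dbar {H : Subgroup G} {D : Set G} (htop : closure D = ⊤) :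
    closure (dbar H D) = ⊤ := by
  rw [← MonoidHom.map_closure, htop, ← MonoidHom.range_eq_map, MonoidHom.range_eq_top]
  exact QuotientGroup.mk'_surjective _

omit [Group G] [Finite G] in
/-- The core free case, when the members generate. -/
theorem coreFree (hcore : Crit5.PropCore.{u}) (hker : PropKernel.{u}) :
    ∀ (X : Type u) [Group X] [Finite X] (H : Subgroup X) (D : Set X), Setting H D →
      ProdHyp H D → H.normalCore = ⊥ → closure D = ⊤ → Cfsg.IsStronglyEmbedded H := by
  suffices main : ∀ (n : ℕ) (X : Type u) [Group X] [Finite X] (H : Subgroup X) (D : Set X),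
      Nat.card X = n → Setting H D → ProdHyp H D → H.normalCore = ⊥ → closure D = ⊤ →
        Cfsg.IsStronglyEmbedded H from
    fun X _ _ H D hS hP hc ht => main _ X H D rfl hS hP hc ht
  intro n
  induction n using Nat.strong_induction_on with
  | _ n ih =>
  intro X _ _ H D hn hS hP hc ht
  haveI : FaithfulSMul X (X ⧸ H) := by
    refine ⟨fun {p q} e => ?_⟩
    have h1 : p⁻¹ * q ∈ (MulAction.toPermHom X (X ⧸ H)).ker := by
      rw [MonoidHom.mem_ker]
      refine Equiv.ext fun c => ?_
      show (p⁻¹ * q) • c = c
      rw [mul_smul, inv_smul_eq_iff]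
      exact (e c).symm
    rw [← Subgroup.normalCore_eq_ker, hc, mem_bot] at h1
    exact inv_mul_eq_one.1 h1
  have hpre := Crit8.pre_of_prodHyp hS hP
  have hmul : ∀ d ∈ D, ∀ e ∈ D, d ≠ e → Commute d e → d * e ∈ D := fun d hd e he hne hde =>
    hpre.mul_mem_D_of_prod (Crit8.prodAct_of_prodHyp hS hP) hd he hne hde
  refine stronglyEmbedded_of_localHyp_top hcore hS (fun u hu huH hbad => ?_) ht
  have hS' := Crit8.setting_loc hS hu huH hbad
  set L := loc D u with hLdef
  set E := {x : X | x ∈ D ∧ Commute x u} with hE
  have hC' : ProdClosed (H.subgroupOf L) (part L E) := by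
    intro d e hd _ he _ hde hne
    exact ⟨hmul _ hd.1 _ he.1 (fun h => hne (Subtype.ext h)) (congrArg Subtype.val hde.eq),
      hd.2.mul_left he.2⟩
  have hP' := Crit8.prodHyp_of_closed hS' hC'
  have htop' : closure (part L E) = ⊤ := closure_part_closure
  -- the local group is proper
  have hlt : Nat.card L < Nat.card X := by
    refine lt_of_le_of_ne (Subgroup.card_le_card_group L) fun e => ?_
    have hL : L = ⊤ := Subgroup.eq_top_of_card_eq L e
    have hcu : ∀ g : X, Commute g u := fun g => by
      have hg : g ∈ L := hL ▸ Subgroup.mem_top g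
      induction hg using Subgroup.closure_induction with
      | mem y hy => exact hy.2
      | one => exact Commute.one_left u
      | mul a b _ _ ha hb => exact ha.mul_left hb
      | inv a _ ha => exact ha.inv_left
    have h1 : u ∈ H.normalCore := fun g => by
      rw [(hcu g).eq, mul_inv_cancel_right]
      exact huH
    rw [hc, mem_bot] at h1
    exact Basic.invol_ne_one hu h1
  have hbar := ih _ (lt_of_le_of_lt (Nat.card_le_card_of_surjective _
      (QuotientGroup.mk'_surjective (H.subgroupOf L).normalCore)) (hn ▸ hlt)) _ _ _ rfl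
    (Crit8.setting_quot hS' hP') (Crit8.prodHyp_quot hS' hP') Crit8.normalCore_hbar
    (closure_dbar htop')
  refine lift_odd (hker _ _ _ hS' hC' htop' hbar) hS'.ne_top ?_ hbar
  obtain ⟨d, hd, hdH⟩ := Crit8.nonempty_of_setting hS'
  exact even_iff_two_dvd.2 (hS'.invol d hd ▸ Subgroup.orderOf_dvd_natCard _ hdH)

/-- The product closed case. -/
theorem critClosed (hcore : Crit5.PropCore.{u}) (hker : PropKernel.{u}) {H : Subgroup G} {D : Set G}
    (hS : Setting H D) (hC : ProdClosed H D) :
    Cfsg.IsStronglyEmbedded (H.subgroupOf (closure D)) := by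
  have hS' := Crit8.setting_closure hS
  have hC' := prodClosed_restrict (K := closure D) hC
  have hP' := Crit8.prodHyp_of_closed hS' hC'
  have htop : closure (part (closure D) D) = ⊤ := closure_part_closure
  have hbar := coreFree hcore hker _ _ _ (Crit8.setting_quot hS' hP')
    (Crit8.prodHyp_quot hS' hP') Crit8.normalCore_hbar (closure_dbar htop)
  refine lift_odd (hker _ _ _ hS' hC' htop hbar) hS'.ne_top ?_ hbar
  obtain ⟨d, hd, hdH⟩ := Crit8.nonempty_of_setting hS'
  exact even_iff_two_dvd.2 (hS'.invol d hd ▸ Subgroup.orderOf_dvd_natCard _ hdH)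

omit [Group G] [Finite G] in
theorem critProp (hcore : Crit5.PropCore.{u}) (hker : PropKernel.{u}) : CritProp.{u} :=
  fun _ _ _ _ _ hS h => h.elim (critLocal hcore hS) (critClosed hcore hker hS)

omit [Group G] [Finite G] in
theorem critFaithful (hcore : Crit5.PropCore.{u}) (hker : PropKernel.{u}) : CritFaithful.{u} := by
  intro X _ _ H D hS hc hP
  set K := closure D with hK
  refine coreFree hcore hker _ _ _ (Crit8.setting_closure hS)
    (Crit8.prodHyp_restrict hP subset_rfl) ?_ closure_part_closure
  -- the core inside `K` lies in the core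
  rw [eq_bot_iff]
  intro n hn
  suffices hnH : (n : X) ∈ H.normalCore by
    rw [hc, mem_bot] at hnH
    exact mem_bot.2 (Subtype.ext hnH)
  intro g
  obtain ⟨d, hd, hdH⟩ := Crit8.nonempty_of_setting hS
  obtain ⟨z', -, hz⟩ := Crit8.one_of_setting hS hd
  obtain ⟨z'', -, hz2⟩ := Crit8.one_of_setting hS (hS.conj d hd g⁻¹)
  have h0 : ∀ x y : X, x ∈ H → (y * x * y⁻¹) • ((y : X) : X ⧸ H) = (y : X ⧸ H) := fun x y hx =>
    Crit8.smul_mk_eq_iff.2 (by simpa [mul_assoc] using hx)
  have h1 : d • ((1 : X) : X ⧸ H) = ((1 : X) : X ⧸ H) := by simpa using h0 d 1 hdH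
  have h2 := h0 d g⁻¹ hdH
  obtain ⟨k, hk, hkg⟩ := Crit8.exists_smul_of_unique_fix (K := K) (hS.invol d hd)
    (subset_closure hd) (hS.invol _ (hS.conj d hd g⁻¹)) (subset_closure (hS.conj d hd g⁻¹))
    (a := ((1 : X) : X ⧸ H)) (fun x hx => (hz x hx).trans (hz _ h1).symm) h2
    (fun x hx => (hz2 x hx).trans (hz2 _ h2).symm)
  have h3 : k * g⁻¹ ∈ H := by
    have e := QuotientGroup.eq.1 (show (((k * g⁻¹ : X)) : X ⧸ H) = ((1 : X) : X ⧸ H) from hkg)
    simpa using inv_mem e
  have hk' : k * (n : X) * k⁻¹ ∈ H := hn ⟨k, hk⟩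
  have h4 := mul_mem (mul_mem (inv_mem h3) hk') h3
  convert h4 using 1
  group

end Cfsg.Agent.Lib.Crit59.Assembly
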