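import Cfsg.Agent.Lib.Involutions.StronglyEmbedded

/-!
# Moving strong embedding along isomorphisms
-/

set_option autoImplicit false

namespace Cfsg.Agent.Lib.Crit59.Transport

open Cfsg.Agent.Lib.Involutions

variable {G K : Type*} [Group G] [Group K] [Finite G] [Finite K]

theorem of_equiv (e : G ≃* K) {H : Subgroup G} {M : Subgroup K} (h : ∀ x : G, x ∈ H ↔ e x ∈ M)
    (hM : Cfsg.IsStronglyEmbedded M) : Cfsg.IsStronglyEmbedded H := by
  refine StronglyEmbedded.of_forall_conj ?_ ?_ ?_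
  · intro ht
    refine hM.1 (eq_top_iff.2 fun y _ => ?_)
    have := (h (e.symm y)).1 (ht ▸ Subgroup.mem_top _)
    simpa using this
  · rw [Nat.card_congr (e.toEquiv.subtypeEquiv (p := (· ∈ H)) (q := (· ∈ M)) h)]
    exact hM.2.1
  · intro t htH ht g hg
    refine (h g).2 (StronglyEmbedded.mem_of_conj_mem hM (t := e t) ?_ ((h t).1 htH) ?_)
    · rw [MulEquiv.orderOf_eq, ht]
    · have := (h _).1 hg
      simpa using this

theorem subgroupOf_of_map (e : G ≃* G) {X H : Subgroup G} (h : ∀ x : G, x ∈ H ↔ e x ∈ H)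
    (hX : Cfsg.IsStronglyEmbedded (H.subgroupOf (X.map e.toMonoidHom))) :
    Cfsg.IsStronglyEmbedded (H.subgroupOf X) := by
  refine of_equiv (e.subgroupMap X) (fun x => ?_) hX
  simp only [Subgroup.mem_subgroupOf]
  exact h x

theorem of_subgroupOf_top {H : Subgroup G}
    (hH : Cfsg.IsStronglyEmbedded (H.subgroupOf (⊤ : Subgroup G))) :
    Cfsg.IsStronglyEmbedded H :=
  of_equiv Subgroup.topEquiv.symm (fun x => by simp [Subgroup.mem_subgroupOf]) hH

end Cfsg.Agent.Lib.Crit59.Transport
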