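import Cfsg.Agent.Lib.Involutions.Basic
import Cfsg.Agent.Lib.Crit59.Transport
import Cfsg.Prelude.Def_Involutions

/-!
# The single fixed point criterion: setting and elementary wirings

`CritProp` is the criterion: a normal set `D` of involutions, each fixing one point of `G/H` only,
an odd number of them fixing the base point, and either the strong embedding for the local groups
`<D ∩ C(u)>` or the closure of `D` under products of commuting members at one point.  The conclusion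
is that `H ∩ <D>` is strongly embedded in `<D>`.  With the weaker hypothesis on centralisers of the
products (`ProdHyp`) the core of `H` has to be trivial (`CritFaithful`): in `A₅ × ⟨u⟩` on five points
with `D = {tu}` the core `⟨u⟩` is an obstruction.
-/

set_option autoImplicit false
set_option linter.style.haveILetI false

universe u

namespace Cfsg.Agent.Lib.Crit59

variable {G : Type u} [Group G]

/-- The setting of the criterion. -/
structure Setting (H : Subgroup G) (D : Set G) : Prop where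
  ne_top : H ≠ ⊤
  invol : ∀ d ∈ D, orderOf d = 2
  conj : ∀ d ∈ D, ∀ g : G, g * d * g⁻¹ ∈ D
  meets : ∀ d ∈ D, ∃ g : G, g * d * g⁻¹ ∈ H
  fix : ∀ d ∈ D, d ∈ H → ∀ g : G, g * d * g⁻¹ ∈ H → g ∈ H
  odd : Odd (Nat.card {d : G // d ∈ D ∧ d ∈ H})

/-- The local hypothesis. -/
def LocalHyp (H : Subgroup G) (D : Set G) : Prop :=
  ∀ u : G, orderOf u = 2 → u ∈ H → (∃ g : G, g * u * g⁻¹ ∈ H ∧ g ∉ H) →
    Cfsg.IsStronglyEmbedded
      (H.subgroupOf (Subgroup.closure {x : G | x ∈ D ∧ x * u = u * x}))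

/-- The hypothesis on products. -/
def ProdHyp (H : Subgroup G) (D : Set G) : Prop :=
  ∀ d e : G, d ∈ D → d ∈ H → e ∈ D → e ∈ H → Commute d e → d ≠ e →
    Subgroup.centralizer ({d * e} : Set G) ≤ H

/-- Products of commuting members at one point are members. -/
def ProdClosed (H : Subgroup G) (D : Set G) : Prop :=
  ∀ d e : G, d ∈ D → d ∈ H → e ∈ D → e ∈ H → Commute d e → d ≠ e → d * e ∈ D

/-- The single fixed point criterion. -/
def CritProp : Prop :=
  ∀ (G : Type u) [Group G] [Finite G] (H : Subgroup G) (D : Set G),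
    Setting H D → LocalHyp H D ∨ ProdClosed H D →
      Cfsg.IsStronglyEmbedded (H.subgroupOf (Subgroup.closure D))

/-- The criterion for a faithful action, with the hypothesis on products. -/
def CritFaithful : Prop :=
  ∀ (G : Type u) [Group G] [Finite G] (H : Subgroup G) (D : Set G),
    Setting H D → H.normalCore = ⊥ → ProdHyp H D →
      Cfsg.IsStronglyEmbedded (H.subgroupOf (Subgroup.closure D))

theorem conj_conj (g a x : G) : g * (a * x * a⁻¹) * g⁻¹ = g * a * x * (g * a)⁻¹ := by group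

/-- A member commuting with `g`, inside `H`, forces `g ∈ H`. -/
theorem Setting.centralizer_le {H : Subgroup G} {D : Set G} (h : Setting H D) {d : G} (hd : d ∈ D)
    (hdH : d ∈ H) : Subgroup.centralizer ({d} : Set G) ≤ H := fun g hg => by
  refine h.fix d hd hdH g ?_
  rwa [Subgroup.mem_centralizer_singleton_iff.1 hg, mul_inv_cancel_right]

/-- An involutive map on an odd set fixes a point. -/
theorem exists_fixed_of_odd {α : Type*} [Finite α] (hodd : Odd (Nat.card α)) (f : α → α)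
    (hf : ∀ a, f (f a) = a) : ∃ a, f a = a := by
  classical
  haveI := Fintype.ofFinite α
  by_contra hne
  push Not at hne
  have h1 : ∑ _x : α, (1 : ZMod 2) = 0 :=
    Finset.sum_involution (fun a _ => f a) (fun a _ => by decide) (fun a _ _ => hne a)
      (fun a _ => Finset.mem_univ _) (fun a _ => hf a)
  rw [Finset.sum_const, nsmul_one, Finset.card_univ, ← Nat.card_eq_fintype_card] at h1
  exact Nat.not_even_iff_odd.2 hodd (ZMod.natCast_eq_zero_iff_even.mp h1)

variable [Finite G]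

/-- A subgroup over a Sylow subgroup centralising `z ∈ H` has odd orbit on `z`. -/
theorem odd_orbit (P : Sylow 2 G) {H : Subgroup G} (hPH : (P : Subgroup G) ≤ H) {z : G}
    (hPz : (P : Subgroup G) ≤ Subgroup.centralizer ({z} : Set G)) :
    Odd (Nat.card {x : G // ∃ h ∈ H, h * z * h⁻¹ = x}) := by
  set C : Subgroup H := (Subgroup.centralizer ({z} : Set G)).subgroupOf H with hC
  let f : H ⧸ C → {x : G // ∃ h ∈ H, h * z * h⁻¹ = x} :=
    Quotient.lift (fun h => ⟨(h : G) * z * (h : G)⁻¹, h, h.2, rfl⟩) (by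
      intro a b hab
      replace hab := QuotientGroup.leftRel_apply.1 hab
      have h1 := Subgroup.mem_centralizer_singleton_iff.1 (Subgroup.mem_subgroupOf.1 hab)
      simp only [Subgroup.coe_mul, InvMemClass.coe_inv] at h1
      refine Subtype.ext ?_
      calc (a : G) * z * (a : G)⁻¹ = (a : G) * (z * ((a : G)⁻¹ * b)) * (b : G)⁻¹ := by group
        _ = (a : G) * ((a : G)⁻¹ * b * z) * (b : G)⁻¹ := by rw [h1]
        _ = (b : G) * z * (b : G)⁻¹ := by group)
  have hf : Function.Bijective f := by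
    constructor
    · intro p q
      induction p using QuotientGroup.induction_on with | H a =>
      induction q using QuotientGroup.induction_on with | H b =>
      intro h
      have h' : (a : G) * z * (a : G)⁻¹ = (b : G) * z * (b : G)⁻¹ := congrArg Subtype.val h
      refine QuotientGroup.eq.2 (Subgroup.mem_subgroupOf.2
        (Subgroup.mem_centralizer_singleton_iff.2 ?_))
      simp only [Subgroup.coe_mul, InvMemClass.coe_inv]
      calc (a : G)⁻¹ * b * z = (a : G)⁻¹ * ((b : G) * z * (b : G)⁻¹) * b := by group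
        _ = (a : G)⁻¹ * ((a : G) * z * (a : G)⁻¹) * b := by rw [h']
        _ = z * ((a : G)⁻¹ * b) := by group
    · rintro ⟨x, h, hh, rfl⟩
      exact ⟨((⟨h, hh⟩ : H) : H ⧸ C), rfl⟩
  rw [← Nat.card_congr (Equiv.ofBijective f hf), ← Subgroup.index_eq_card,
    ← Nat.not_even_iff_odd]
  intro hev
  have hle : (P : Subgroup G).subgroupOf H ≤ C := fun x hx => hPz hx
  have h2 : 2 ∣ ((P : Subgroup G).subgroupOf H).index :=
    (even_iff_two_dvd.1 hev).trans (Subgroup.index_dvd_of_le hle)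
  have h3 : (P : Subgroup G).relIndex H ∣ (P : Subgroup G).index :=
    ⟨H.index, (Subgroup.relIndex_mul_index hPH).symm⟩
  haveI : Fact (Nat.Prime 2) := ⟨Nat.prime_two⟩
  exact P.not_dvd_index (h2.trans h3)

/-- The class of a central involution: unique fixed point from the fusion condition. -/
theorem setting_conjClass (P : Sylow 2 G) {z : G} (hz : orderOf z = 2)
    (hPz : (P : Subgroup G) ≤ Subgroup.centralizer ({z} : Set G)) {H : Subgroup G} (hH : H ≠ ⊤)
    (hzH : z ∈ H) (hfus : ∀ g : G, g * z * g⁻¹ ∈ H → g ∈ H) :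
    Setting H {x : G | IsConj z x} := by
  have hPH : (P : Subgroup G) ≤ H := fun g hg => hfus g (by
    rw [Subgroup.mem_centralizer_singleton_iff.1 (hPz hg), mul_inv_cancel_right]; exact hzH)
  refine ⟨hH, ?_, ?_, ?_, ?_, ?_⟩
  · rintro d hd
    obtain ⟨a, rfl⟩ := isConj_iff.1 hd
    exact (Involutions.Basic.orderOf_conj_eq a z).trans hz
  · rintro d hd g
    exact hd.trans (isConj_iff.2 ⟨g, rfl⟩)
  · rintro d hd
    obtain ⟨a, rfl⟩ := isConj_iff.1 hd
    exact ⟨a⁻¹, by simpa [mul_assoc] using hzH⟩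
  · rintro d hd hdH g hg
    obtain ⟨a, rfl⟩ := isConj_iff.1 hd
    have ha : a ∈ H := hfus a hdH
    rw [conj_conj] at hg
    simpa using mul_mem (hfus _ hg) (inv_mem ha)
  · have e : Nat.card {x : G // IsConj z x ∧ x ∈ H} =
        Nat.card {x : G // ∃ h ∈ H, h * z * h⁻¹ = x} := by
      refine Nat.card_congr (Equiv.subtypeEquivRight fun x => ⟨?_, ?_⟩)
      · rintro ⟨hc, hx⟩
        obtain ⟨a, rfl⟩ := isConj_iff.1 hc
        exact ⟨a, hfus a hx, rfl⟩
      · rintro ⟨h, hh, rfl⟩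
        exact ⟨isConj_iff.2 ⟨h, rfl⟩, mul_mem (mul_mem hh hzH) (inv_mem hh)⟩
    show Odd (Nat.card {x : G // IsConj z x ∧ x ∈ H})
    rw [e]
    exact odd_orbit P hPH hPz

/-- The conclusion of S1913. -/
theorem row1913 (hcrit : CritProp.{u}) (P : Sylow 2 G) {z : G} (hz2 : orderOf z = 2)
    (hzP : z ∈ (Subgroup.center ↥(P : Subgroup G)).map (P : Subgroup G).subtype)
    (H : Subgroup G) (hH : H ≠ ⊤) (hi : ∀ g : G, z ∈ H.map (MulAut.conj g).toMonoidHom ↔ g ∈ H)
    (hii : ∀ u : G, orderOf u = 2 → u * z = z * u → ¬ Subgroup.centralizer ({u} : Set G) ≤ H →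
      Cfsg.IsStronglyEmbedded (H.subgroupOf (Subgroup.closure {x : G | IsConj z x ∧ x * u = u * x}))) :
    Cfsg.IsStronglyEmbedded (H.subgroupOf (Subgroup.normalClosure ({z} : Set G))) := by
  have hPz : (P : Subgroup G) ≤ Subgroup.centralizer ({z} : Set G) := by
    obtain ⟨z', hz', rfl⟩ := Subgroup.mem_map.1 hzP
    intro g hg
    exact Subgroup.mem_centralizer_singleton_iff.2
      (congrArg Subtype.val (Subgroup.mem_center_iff.1 hz' ⟨g, hg⟩))
  have hzH : z ∈ H := by simpa using (hi 1).2 (one_mem H)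
  have hfus : ∀ g : G, g * z * g⁻¹ ∈ H → g ∈ H := fun g hg => inv_mem_iff.1 ((hi g⁻¹).1
    (by rw [Subgroup.mem_map_equiv, MulAut.conj_symm_apply, inv_inv]; exact hg))
  have hS := setting_conjClass P hz2 hPz hH hzH hfus
  have key := hcrit G H _ hS (Or.inl ?_)
  · have e : Subgroup.normalClosure ({z} : Set G) = Subgroup.closure {x : G | IsConj z x} := by
      show Subgroup.closure (Group.conjugatesOfSet ({z} : Set G)) = _
      congr 1
      ext x
      simp [Group.mem_conjugatesOfSet_iff]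
    rw [e]; exact key
  intro v hv hvH hbad
  obtain ⟨g, hgv, hgH⟩ := hbad
  -- `v` centralises a member at the base point and one at the other point
  have hfix : ∀ w : G, orderOf w = 2 → w ∈ H → ∃ h ∈ H, Commute w (h * z * h⁻¹) := by
    intro w hw hwH
    have hww : w⁻¹ = w := Involutions.Basic.invol_inv hw
    obtain ⟨⟨d, hd, hdH⟩, hdd⟩ := exists_fixed_of_odd hS.odd
      (fun d => ⟨w * d.1 * w⁻¹, hS.conj _ d.2.1 w, mul_mem (mul_mem hwH d.2.2) (inv_mem hwH)⟩)
      (fun d => Subtype.ext (by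
        show w * (w * d.1 * w⁻¹) * w⁻¹ = d.1
        rw [conj_conj, Involutions.Basic.invol_mul_self hw]; simp))
    obtain ⟨a, rfl⟩ := isConj_iff.1 hd
    refine ⟨a, hfus a hdH, ?_⟩
    have h1 : w * (a * z * a⁻¹) * w⁻¹ = a * z * a⁻¹ := congrArg Subtype.val hdd
    exact mul_inv_eq_iff_eq_mul.1 h1
  obtain ⟨h, hh, hc⟩ := hfix v hv hvH
  -- move the member at the base point to `z`
  have hu : h⁻¹ * v * h⁻¹⁻¹ * z = z * (h⁻¹ * v * h⁻¹⁻¹) := by
    calc h⁻¹ * v * h⁻¹⁻¹ * z = h⁻¹ * (v * (h * z * h⁻¹)) * h := by group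
      _ = h⁻¹ * (h * z * h⁻¹ * v) * h := by rw [hc.eq]
      _ = z * (h⁻¹ * v * h⁻¹⁻¹) := by group
  have hnle : ¬ Subgroup.centralizer ({h⁻¹ * v * h⁻¹⁻¹} : Set G) ≤ H := by
    intro hle
    obtain ⟨k, hk, hck⟩ := hfix (g * v * g⁻¹) ((Involutions.Basic.orderOf_conj_eq g v).trans hv) hgv
    have hm : h⁻¹ * g⁻¹ * (k * z * k⁻¹) * (h⁻¹ * g⁻¹)⁻¹ ∈
        Subgroup.centralizer ({h⁻¹ * v * h⁻¹⁻¹} : Set G) := by
      refine Subgroup.mem_centralizer_singleton_iff.2 ?_
      calc h⁻¹ * g⁻¹ * (k * z * k⁻¹) * (h⁻¹ * g⁻¹)⁻¹ * (h⁻¹ * v * h⁻¹⁻¹)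
          = h⁻¹ * g⁻¹ * (k * z * k⁻¹ * (g * v * g⁻¹)) * (h⁻¹ * g⁻¹)⁻¹ := by group
        _ = h⁻¹ * g⁻¹ * (g * v * g⁻¹ * (k * z * k⁻¹)) * (h⁻¹ * g⁻¹)⁻¹ := by rw [hck.eq]
        _ = h⁻¹ * v * h⁻¹⁻¹ * (h⁻¹ * g⁻¹ * (k * z * k⁻¹) * (h⁻¹ * g⁻¹)⁻¹) := by group
    have h1 := hle hm
    rw [conj_conj] at h1
    have h2 := hfus _ h1
    apply hgH
    have h3 : g⁻¹ ∈ H := by
      have := mul_mem (mul_mem hh h2) (inv_mem hk)
      simpa [mul_assoc] using this
    simpa using inv_mem h3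
  have h4 := hii _ ((Involutions.Basic.orderOf_conj_eq _ v).trans hv) hu hnle
  have hhsymm : h⁻¹⁻¹ = h := inv_inv h
  have e : Subgroup.closure {x : G | IsConj z x ∧ x * (h⁻¹ * v * h⁻¹⁻¹) = h⁻¹ * v * h⁻¹⁻¹ * x} =
      (Subgroup.closure {x : G | IsConj z x ∧ x * v = v * x}).map
        (MulAut.conj h⁻¹).toMonoidHom := by
    rw [MonoidHom.map_closure]
    congr 1
    ext x
    simp only [MulEquiv.coe_toMonoidHom, Set.mem_setOf_eq, Set.mem_image, MulAut.conj_apply]
    constructor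
    · rintro ⟨hx, hxc⟩
      refine ⟨h * x * h⁻¹, ⟨hx.trans (isConj_iff.2 ⟨h, rfl⟩), ?_⟩, by group⟩
      calc h * x * h⁻¹ * v = h * (x * (h⁻¹ * v * h⁻¹⁻¹)) * h⁻¹ := by group
        _ = h * (h⁻¹ * v * h⁻¹⁻¹ * x) * h⁻¹ := by rw [hxc]
        _ = v * (h * x * h⁻¹) := by group
    · rintro ⟨y, ⟨hy, hyc⟩, rfl⟩
      refine ⟨hy.trans (isConj_iff.2 ⟨h⁻¹, rfl⟩), ?_⟩
      calc h⁻¹ * y * h⁻¹⁻¹ * (h⁻¹ * v * h⁻¹⁻¹) = h⁻¹ * (y * v) * h⁻¹⁻¹ := by group
        _ = h⁻¹ * (v * y) * h⁻¹⁻¹ := by rw [hyc]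
        _ = h⁻¹ * v * h⁻¹⁻¹ * (h⁻¹ * y * h⁻¹⁻¹) := by group
  rw [e] at h4
  exact Transport.subgroupOf_of_map (MulAut.conj h⁻¹) (fun x => by
    simp only [MulAut.conj_apply]
    exact ⟨fun hx => mul_mem (mul_mem (inv_mem hh) hx) (inv_mem (inv_mem hh)),
      fun hx => by simpa [mul_assoc] using mul_mem (mul_mem hh hx) (inv_mem hh)⟩) h4

/-- The conclusion of S1175. -/
theorem row1175 (hcrit : CritFaithful.{u}) [IsSimpleGroup G] (M : Subgroup G) (hM : M ≠ ⊤) {z : G}
    (hz : orderOf z = 2) (hzM : z ∈ M) (h1 : ∃ S : Sylow 2 G, z ∈ S ∧ ∀ s ∈ S, Commute s z)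
    (h2 : ∀ g : G, g * z * g⁻¹ ∈ M → g ∈ M)
    (h3 : ∀ g : G, Commute z (g * z * g⁻¹) → g * z * g⁻¹ ≠ z →
      Subgroup.centralizer ({z * (g * z * g⁻¹)} : Set G) ≤ M) :
    ∃ H : Subgroup G, Cfsg.IsStronglyEmbedded H := by
  obtain ⟨S, hzS, hSz⟩ := h1
  have hS := setting_conjClass S hz
    (fun g hg => Subgroup.mem_centralizer_singleton_iff.2 (hSz g hg).eq) hM hzM h2
  have hcore : M.normalCore = ⊥ :=
    ((Subgroup.normalCore_normal M).eq_bot_or_eq_top).resolve_right fun e =>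
      hM (eq_top_iff.2 (e ▸ Subgroup.normalCore_le M))
  have key := hcrit G M _ hS hcore ?_
  · have htop : Subgroup.closure {x : G | IsConj z x} = ⊤ := by
      have e : Subgroup.normalClosure ({z} : Set G) = Subgroup.closure {x : G | IsConj z x} := by
        show Subgroup.closure (Group.conjugatesOfSet ({z} : Set G)) = _
        congr 1
        ext x
        simp [Group.mem_conjugatesOfSet_iff]
      rw [← e]
      refine (Subgroup.Normal.eq_bot_or_eq_top inferInstance).resolve_left fun h => ?_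
      exact Involutions.Basic.invol_ne_one hz
        (Subgroup.mem_bot.1 (h ▸ Subgroup.subset_normalClosure rfl))
    rw [htop] at key
    exact ⟨M, Transport.of_subgroupOf_top key⟩
  intro d e hd hdM he _ hde hne g hg
  obtain ⟨a, rfl⟩ := isConj_iff.1 hd
  obtain ⟨b, rfl⟩ := isConj_iff.1 he
  have ha : a ∈ M := h2 a hdM
  have hab : a⁻¹ * b * z * (a⁻¹ * b)⁻¹ = a⁻¹ * (b * z * b⁻¹) * a := by group
  have hc : Commute z (a⁻¹ * b * z * (a⁻¹ * b)⁻¹) := by
    show z * _ = _ * z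
    rw [hab]
    calc z * (a⁻¹ * (b * z * b⁻¹) * a) = a⁻¹ * (a * z * a⁻¹ * (b * z * b⁻¹)) * a := by group
      _ = a⁻¹ * (b * z * b⁻¹ * (a * z * a⁻¹)) * a := by rw [hde.eq]
      _ = a⁻¹ * (b * z * b⁻¹) * a * z := by group
  have hne' : a⁻¹ * b * z * (a⁻¹ * b)⁻¹ ≠ z := by
    intro h
    refine hne ?_
    calc a * z * a⁻¹ = a * (a⁻¹ * b * z * (a⁻¹ * b)⁻¹) * a⁻¹ := by rw [h]
      _ = b * z * b⁻¹ := by group
  have hg' : a⁻¹ * g * a ∈ M := by
    refine h3 _ hc hne' (Subgroup.mem_centralizer_singleton_iff.2 ?_)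
    have hgg := Subgroup.mem_centralizer_singleton_iff.1 hg
    calc a⁻¹ * g * a * (z * (a⁻¹ * b * z * (a⁻¹ * b)⁻¹))
        = a⁻¹ * (g * (a * z * a⁻¹ * (b * z * b⁻¹))) * a := by group
      _ = a⁻¹ * (a * z * a⁻¹ * (b * z * b⁻¹) * g) * a := by rw [hgg]
      _ = z * (a⁻¹ * b * z * (a⁻¹ * b)⁻¹) * (a⁻¹ * g * a) := by group
  simpa [mul_assoc] using mul_mem (mul_mem ha hg') (inv_mem ha)

end Cfsg.Agent.Lib.Crit59
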