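import Cfsg.Agent.Lib.Crit59.Closed
import Cfsg.Agent.Lib.RankOne.Basic
import Cfsg.Agent.Lib.BenderSuzuki.Interface

/-!
# A strongly closed subgroup lies in the rank-one socle

`X` is a normal subgroup, faithful on `Ω`, with a rank-one set-up on it, `S` is strongly closed in a Sylow subgroup
fixing `a`, contains the involutions of `X` fixing `a`, and its non-trivial elements fix `a` only.
Then `S ≤ X`: an element outside gives an involution `v` fixing two points; two involutions of `X`
fixed by `v` give a torus element commuting with it, and otherwise `q = 4`, where a counting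
argument finishes.
-/

set_option autoImplicit false
set_option linter.style.haveILetI false
set_option linter.unusedSectionVars false

universe u v

namespace Cfsg.Agent.Lib.Crit59.Regular

open MulAction Cfsg.Agent.Lib.RankOne.Basic
open Cfsg.Agent.Lib.Involutions

variable {G : Type u} {Ω : Type v} [Group G] [Finite G] [MulAction G Ω]
variable {X : Subgroup G} [X.Normal] [FaithfulSMul X Ω] {T : Sylow 2 G} {S : Subgroup G} {a : Ω} {t : X}
  {Q : Subgroup X}

/-- The shape of `Q` when `q = 4`. -/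
def SmallShape (a : Ω) (t : X) (Q : Subgroup X) : Prop :=
  BenderSuzuki.qNum X a = 4 → Nat.card Q = 4 ∨ Nat.card Q = 16 ∨
    (Nat.card Q = 64 ∧ ∃ f ∈ twoStab X a t, orderOf f = 5)

/-- The hypotheses. -/
structure Ctx (G : Type u) {Ω : Type v} [Group G] [MulAction G Ω] (X : Subgroup G) (T : Sylow 2 G)
    (S : Subgroup G) (a : Ω) (t : X) (Q : Subgroup X) : Prop where
  setup : Cfsg.IsRankOneSetup X Ω a t Q
  twoRank : BenderSuzuki.TwoRank X
  twoGroup : IsPGroup 2 Q
  small : SmallShape a t Q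
  fixes : ∀ x ∈ (T : Subgroup G), x • a = a
  closed : Cfsg.IsStronglyClosed S (T : Subgroup G)
  semi : ∀ s ∈ S, s ≠ 1 → ∀ c : Ω, s • c = c → c = a
  invol : ∀ x : X, orderOf x = 2 → (x : G) ∈ (T : Subgroup G) → (x : G) ∈ S

variable (h : Ctx G X T S a t Q)
include h

omit [FaithfulSMul X Ω] in
theorem mem_Q_iff (x : X) : x ∈ Q ↔ (x : G) ∈ (T : Subgroup G) := by
  haveI : Fact (Nat.Prime 2) := ⟨Nat.prime_two⟩
  have hS := h.setup
  -- a `2`-element fixing `a` lies in `Q`
  have key : ∀ y : X, y • a = a → (∃ k : ℕ, orderOf y = 2 ^ k) → y ∈ Q := by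
    intro y hy hk
    have hp : IsPGroup 2 ↥(Q ⊔ Subgroup.zpowers y) := by
      obtain ⟨k, hk⟩ := hk
      refine IsPGroup.to_sup_of_normal_left' h.twoGroup
        (IsPGroup.of_card (n := k) (by rw [Nat.card_zpowers, hk])) ?_
      rw [Subgroup.zpowers_le]
      have hyi : y⁻¹ • a = a := inv_smul_eq_iff.2 hy.symm
      refine Subgroup.mem_normalizer_iff.2 fun x => ⟨fun hx => hS.conj_mem y hy x hx, fun hx => ?_⟩
      simpa [mul_assoc] using hS.conj_mem y⁻¹ hyi _ hx
    have hle : Q ⊔ Subgroup.zpowers y ≤ stabilizer X a :=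
      sup_le hS.le (Subgroup.zpowers_le.2 hy)
    obtain ⟨q, hq, d, hd, rfl⟩ := exists_Q_D hS hy
    have hdmem : d ∈ Q ⊔ Subgroup.zpowers (q * d) := by
      have := mul_mem (inv_mem (Subgroup.mem_sup_left (T := Subgroup.zpowers (q * d)) hq))
        (Subgroup.mem_sup_right (S := Q) (Subgroup.mem_zpowers (q * d)))
      rwa [inv_mul_cancel_left] at this
    obtain ⟨j, hj⟩ := IsPGroup.iff_orderOf.1 hp ⟨d, hdmem⟩
    rw [Subgroup.orderOf_mk] at hj
    have hodd : Odd (orderOf d) := hS.odd_card.of_dvd_nat (Subgroup.orderOf_dvd_natCard _ hd)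
    rw [hj] at hodd
    have hj0 : j = 0 := by
      by_contra h0
      exact Nat.not_even_iff_odd.2 hodd ((Nat.even_pow' h0).2 even_two)
    rw [hj0, pow_zero, orderOf_eq_one_iff] at hj
    rw [hj, mul_one]
    exact hq
  constructor
  · intro hx
    have hQT : Q.map X.subtype ≤ (T : Subgroup G) := by
      have hp : IsPGroup 2 ↥((T : Subgroup G) ⊔ Q.map X.subtype) := by
        refine IsPGroup.to_sup_of_normal_right' T.2 (h.twoGroup.map _) fun g hg => ?_
        have hgQ : ∀ g ∈ (T : Subgroup G), ∀ y ∈ Q.map X.subtype,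
            g * y * g⁻¹ ∈ Q.map X.subtype := by
          rintro g hg _ ⟨y, hy, rfl⟩
          refine ⟨⟨g * y * g⁻¹, (inferInstance : X.Normal).conj_mem y y.2 g⟩, key _ ?_ ?_, rfl⟩
          · show (g * (y : G) * g⁻¹) • a = a
            rw [mul_smul, mul_smul, inv_smul_eq_iff.2 (h.fixes g hg).symm]
            show g • (y • a) = a
            rw [Q_fix hS hy, h.fixes g hg]
          · obtain ⟨j, hj⟩ := IsPGroup.iff_orderOf.1 h.twoGroup ⟨y, hy⟩
            rw [Subgroup.orderOf_mk, ← Subgroup.orderOf_coe] at hj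
            exact ⟨j, by rw [← Subgroup.orderOf_coe, Basic.orderOf_conj_eq, hj]⟩
        refine Subgroup.mem_normalizer_iff.2 fun y => ⟨hgQ g hg y, fun hy => ?_⟩
        simpa [mul_assoc] using hgQ g⁻¹ (inv_mem hg) _ hy
      exact le_of_le_of_eq le_sup_right (T.3 hp le_sup_left)
    exact hQT ⟨x, hx, rfl⟩
  · intro hx
    refine key x (h.fixes _ hx) ?_
    obtain ⟨j, hj⟩ := IsPGroup.iff_orderOf.1 T.2 ⟨_, hx⟩
    rw [Subgroup.orderOf_mk, Subgroup.orderOf_coe] at hj
    exact ⟨j, hj⟩

omit [FaithfulSMul X Ω] in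
theorem invs_iff {z : X} : z ∈ BenderSuzuki.invs X a ↔ z ∈ Q ∧ orderOf z = 2 := by
  constructor
  · rintro ⟨h1, h2, h3⟩
    exact ⟨involutions_stab_mem_Q h.setup h1 h3, Basic.invol_iff.2 ⟨h3, h2⟩⟩
  · rintro ⟨h1, h2⟩
    exact ⟨h.setup.le h1, (Basic.invol_iff.1 h2).2, (Basic.invol_iff.1 h2).1⟩

omit [FaithfulSMul X Ω] in
theorem invs_mem_S {z : X} (hz : z ∈ BenderSuzuki.invs X a) : (z : G) ∈ S :=
  h.invol z ((invs_iff h).1 hz).2 ((mem_Q_iff h z).1 ((invs_iff h).1 hz).1)

omit [FaithfulSMul X Ω] in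
theorem odd_invs : Odd (Nat.card ↥(BenderSuzuki.invs X a)) := by
  have e : Nat.card ↥(BenderSuzuki.invs X a) = Nat.card {z : Q // orderOf z = 2} :=
    Nat.card_congr
      { toFun := fun z => ⟨⟨z.1, ((invs_iff h).1 z.2).1⟩, by
          rw [Subgroup.orderOf_mk]; exact ((invs_iff h).1 z.2).2⟩
        invFun := fun z => ⟨z.1.1, (invs_iff h).2 ⟨z.1.2, by rw [Subgroup.orderOf_coe]; exact z.2⟩⟩
        left_inv := fun _ => rfl
        right_inv := fun _ => rfl }
  rw [e]
  exact Basic.odd_card_invol h.setup.even_card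

/-- An element of `twoStab` centralising an element of `Q` other than `1`, inverted by `t`,
is trivial. -/
theorem fpf {w k y : X} (hw : Cfsg.IsRankOneSetup X Ω a w Q)
    (hk : k ∈ BenderSuzuki.kSet a w) (hy : y ∈ Q) (hy1 : y ≠ 1) (hc : k * y * k⁻¹ = y) : k = 1 := by
  haveI : Fact (Nat.Prime 2) := ⟨Nat.prime_two⟩
  obtain ⟨j, hj⟩ := IsPGroup.iff_orderOf.1 h.twoGroup ⟨y, hy⟩
  rw [Subgroup.orderOf_mk] at hj
  obtain ⟨i, rfl⟩ : ∃ i, j = i + 1 := Nat.exists_eq_succ_of_ne_zero fun h0 => hy1 (by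
    rw [h0, pow_zero, orderOf_eq_one_iff] at hj; exact hj)
  set z := y ^ 2 ^ i with hz
  have hz2 : orderOf z = 2 := by
    rw [hz, orderOf_pow' _ (by positivity), hj, pow_succ,
      Nat.gcd_eq_right (dvd_mul_right _ _), Nat.mul_div_cancel_left _ (by positivity)]
  have hzI : z ∈ BenderSuzuki.invs X a := (invs_iff h).2 ⟨pow_mem hy _, hz2⟩
  have hzc : k * z * k⁻¹ = z := by rw [hz, ← conj_pow, hc]
  obtain ⟨u, -, huu⟩ := existsUnique_K hw hzI hzI
  have h1 : (1 : X) ∈ BenderSuzuki.kSet a w :=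
    ⟨one_mem _, by simp⟩
  rw [huu k ⟨hk, hzc⟩, huu 1 ⟨h1, by simp⟩]

/-- The main result. -/
theorem le_socle : S ≤ X := by
  classical
  haveI : Fact (Nat.Prime 2) := ⟨Nat.prime_two⟩
  intro s
  induction hn : orderOf s using Nat.strong_induction_on generalizing s with
  | _ n ih =>
  intro hsS
  subst hn
  by_cases hs1 : s = 1
  · rw [hs1]; exact one_mem X
  obtain ⟨j, hj⟩ := IsPGroup.iff_orderOf.1 T.2 ⟨s, h.closed.1 hsS⟩
  rw [Subgroup.orderOf_mk] at hj
  obtain ⟨i, rfl⟩ : ∃ i, j = i + 1 := Nat.exists_eq_succ_of_ne_zero fun h0 => hs1 (by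
    rw [h0, pow_zero, orderOf_eq_one_iff] at hj; exact hj)
  have hssX : s * s ∈ X := by
    refine ih (orderOf (s * s)) ?_ rfl (mul_mem hsS hsS)
    rw [← pow_two, orderOf_pow' _ two_ne_zero, hj, pow_succ,
      Nat.gcd_eq_right (dvd_mul_left _ _), Nat.mul_div_cancel _ (by norm_num)]
    exact (Nat.lt_mul_iff_one_lt_right (by positivity)).2 (by norm_num)
  by_contra hsX
  have hS := h.setup
  haveI := finiteOmega hS
  set b := t • a with hb
  have hba : b ≠ a := t_smul_ne hS
  have hsa : s • a = a := h.fixes _ (h.closed.1 hsS)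
  have hsb : s • b ≠ a := fun e => hba (smul_left_cancel s (e.trans hsa.symm))
  obtain ⟨x, hxQ, hxb⟩ := Q_trans hS hba hsb
  have hxT : (x : G) ∈ (T : Subgroup G) := (mem_Q_iff h x).1 hxQ
  set v := (x : G)⁻¹ * s with hv
  have hvT : v ∈ (T : Subgroup G) := mul_mem (inv_mem hxT) (h.closed.1 hsS)
  have hva : v • a = a := h.fixes _ hvT
  have hvb : v • b = b := by
    rw [hv, mul_smul, inv_smul_eq_iff]
    exact hxb.symm
  have hv1 : v ≠ 1 := fun e => hsX (by
    rw [← inv_mul_eq_one.1 e]; exact x.2)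
  have hxS : (x : G) ∉ S := fun hx => hba (h.semi v (mul_mem (inv_mem hx) hsS) hv1 b hvb)
  have hconjX : ∀ g y : G, y ∈ X → g * y * g⁻¹ ∈ X := fun g y hy =>
    (inferInstance : X.Normal).conj_mem y hy g
  have hv2 : v * v = 1 := by
    have hm : v * v ∈ X := by
      have e : v * v = (x : G)⁻¹ * (s * (x : G)⁻¹ * s⁻¹) * (s * s) := by rw [hv]; group
      rw [e]
      exact mul_mem (mul_mem (inv_mem x.2) (hconjX _ _ (inv_mem x.2))) hssX
    have hQm : (⟨v * v, hm⟩ : X) ∈ Q := (mem_Q_iff h _).2 (mul_mem hvT hvT)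
    exact congrArg Subtype.val (Q_free hS hQm hba (by
      show (v * v) • b = b
      rw [mul_smul, hvb, hvb]))
  have hvi : v⁻¹ = v := inv_eq_of_mul_eq_one_right hv2
  -- conjugation by `v` on `X`
  let σ : X → X := fun y => ⟨v * y * v⁻¹, hconjX v y y.2⟩
  have hσσ : ∀ y, σ (σ y) = y := fun y => Subtype.ext (by
    show v * (v * (y : G) * v⁻¹) * v⁻¹ = y
    rw [conj_conj, hv2]; simp)
  have hσmul : ∀ y u, σ (y * u) = σ y * σ u := fun y u => Subtype.ext (by
    show v * ((y : G) * u) * v⁻¹ = v * y * v⁻¹ * (v * u * v⁻¹); group)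
  have hσsmul : ∀ (y : X) (c : Ω), σ y • c = v • y • v • c := fun y c => by
    show (v * (y : G) * v⁻¹) • c = v • (y : G) • v • c
    rw [hvi, mul_smul, mul_smul]
  have hσinv : ∀ y : X, σ y⁻¹ = (σ y)⁻¹ := fun y => Subtype.ext (by
    show v * (y : G)⁻¹ * v⁻¹ = (v * y * v⁻¹)⁻¹; group)
  have hσone : σ 1 = 1 := Subtype.ext (by simp [σ])
  -- a swapper commuting with `v`
  let W : Type u := {w : X // w * w = 1 ∧ w • a = b ∧ w • b = a}
  have hWcard : Nat.card W = Nat.card ↥(BenderSuzuki.kSet a t) := by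
    refine Nat.card_congr
      { toFun := fun w => ⟨t * w.1, ?_⟩
        invFun := fun k => ⟨t * k.1, ?_⟩
        left_inv := fun w => Subtype.ext (tt_mul hS w.1)
        right_inv := fun k => Subtype.ext (tt_mul hS k.1) }
    · obtain ⟨w, hw2, hwa, hwb⟩ := w
      refine (mem_invertedBy_iff hS).2 ⟨?_, ?_⟩
      · refine mem_twoStab.2 ⟨?_, ?_⟩
        · show (t * w) • a = a
          rw [mul_smul, hwa, hb, tt_smul hS]
        · show (t * w) • t • a = t • a
          rw [mul_smul, ← hb, hwb]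
      · rw [tt_mul hS, mul_inv_rev, inv_eq_of_mul_eq_one_right hw2, t_inv hS]
    · obtain ⟨k, hk⟩ := k
      obtain ⟨hk1, hk2⟩ := (mem_invertedBy_iff hS).1 hk
      obtain ⟨ka, kb⟩ := mem_twoStab.1 hk1
      refine ⟨?_, ?_, ?_⟩
      · rw [show t * k * (t * k) = t * k * t * k by group, hk2, inv_mul_cancel]
      · rw [mul_smul, ka]
      · rw [mul_smul, hb, kb, tt_smul hS]
  have hWodd : Odd (Nat.card W) := by
    rw [hWcard, card_invertedBy hS]
    exact odd_invs h
  obtain ⟨⟨w, hw2, hwa, hwb⟩, hwfix⟩ := exists_fixed_of_odd hWodd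
    (fun w => ⟨σ w.1, by rw [← hσmul, w.2.1, hσone],
      by rw [hσsmul, hva, w.2.2.1, hvb], by rw [hσsmul, hvb, w.2.2.2, hva]⟩)
    (fun w => Subtype.ext (hσσ w.1))
  have hwσ : σ w = w := congrArg Subtype.val hwfix
  have hw1 : w ≠ 1 := fun e => hba (by rw [← hwa, e, one_smul])
  have hSw : Cfsg.IsRankOneSetup X Ω a w Q :=
    { two_transitive := hS.two_transitive
      mul_self := hw2
      ne_one := hw1
      not_mem := fun e => hba (hwa.symm.trans e)
      le := hS.le
      conj_mem := hS.conj_mem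
      inf_eq_bot := by rw [hwa]; exact hS.inf_eq_bot
      sup_eq := by rw [hwa]; exact hS.sup_eq
      even_card := hS.even_card
      odd_card := by rw [hwa]; exact hS.odd_card }
  have hσQ : ∀ y ∈ Q, σ y ∈ Q := fun y hy => (mem_Q_iff h _).2
    (mul_mem (mul_mem hvT ((mem_Q_iff h y).1 hy)) (inv_mem hvT))
  have hσI : ∀ z ∈ BenderSuzuki.invs X a, σ z ∈ BenderSuzuki.invs X a := fun z hz =>
    (invs_iff h).2 ⟨hσQ z ((invs_iff h).1 hz).1, by
      rw [← Subgroup.orderOf_coe]
      show orderOf (v * (z : G) * v⁻¹) = 2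
      rw [Basic.orderOf_conj_eq, Subgroup.orderOf_coe, ((invs_iff h).1 hz).2]⟩
  obtain ⟨⟨z₀, hz₀⟩, hz₀fix⟩ := exists_fixed_of_odd (odd_invs h)
    (fun z => ⟨σ z.1, hσI z.1 z.2⟩) (fun z => Subtype.ext (hσσ z.1))
  have hz₀σ : σ z₀ = z₀ := congrArg Subtype.val hz₀fix
  have hstabQ : ∀ f ∈ twoStab X a t, ∀ y ∈ Q, f * y * f⁻¹ ∈ Q := fun f hf y hy =>
    twoStab_norm hS hf hy
  have hconjS : ∀ f : X, ∀ y : X, (y : G) ∈ S → f * y * f⁻¹ ∈ Q → ((f * y * f⁻¹ : X) : G) ∈ S := by
    intro f y hy hfy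
    have := (mem_Q_iff h _).1 hfy
    simp only [Subgroup.coe_mul, InvMemClass.coe_inv] at this ⊢
    exact h.closed.2 _ hy _ this
  by_cases hsecond : ∃ z₁ ∈ BenderSuzuki.invs X a, σ z₁ = z₁ ∧ z₁ ≠ z₀
  · -- a torus element commuting with `v`
    obtain ⟨z₁, hz₁, hz₁σ, hne⟩ := hsecond
    obtain ⟨k, ⟨hk, hkz⟩, hku⟩ := existsUnique_K hSw hz₀ hz₁
    have hkσ : σ k = k := by
      obtain ⟨hk1, hk2⟩ := hk
      obtain ⟨ka, kb⟩ := mem_twoStab.1 hk1
      refine hku _ ⟨⟨?_, ?_⟩, ?_⟩
      · rw [mem_twoStab, hσsmul, hσsmul, hva, ka, hva, hwa, hvb]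
        rw [hwa] at kb
        rw [kb, hvb]
        exact ⟨rfl, rfl⟩
      · calc w * σ k * w⁻¹ = σ (w * k * w⁻¹) := by rw [hσmul, hσmul, hσinv, hwσ]
          _ = (σ k)⁻¹ := by rw [hk2, hσinv]
      · calc σ k * z₀ * (σ k)⁻¹ = σ (k * z₀ * k⁻¹) := by rw [hσmul, hσmul, hσinv, hz₀σ]
          _ = z₁ := by rw [hkz, hz₁σ]
    have hk' : k ∈ twoStab X a t := by
      obtain ⟨ka, kb⟩ := mem_twoStab.1 hk.1
      rw [hwa] at kb
      exact mem_twoStab.2 ⟨ka, kb⟩
    have hk1 : k ≠ 1 := fun e => hne (by rw [← hkz, e]; simp)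
    have hcomm : (k : G) * v * (k : G)⁻¹ = v := by
      have h1 : v * (k : G) * v⁻¹ = k := congrArg Subtype.val hkσ
      calc (k : G) * v * (k : G)⁻¹ = v * (k : G) * v⁻¹ * v * (k : G)⁻¹ := by rw [h1]
        _ = v := by group
    -- the commutator map on `S ∩ Q`
    have hy0 : ((k * x * k⁻¹ * x⁻¹ : X) : G) ∈ S := by
      have h1 : (k : G) * s * (k : G)⁻¹ ∈ (T : Subgroup G) := by
        have e : (k : G) * s * (k : G)⁻¹ = ((k * x * k⁻¹ : X) : G) * v := by
          calc (k : G) * s * (k : G)⁻¹ = (k : G) * x * (k : G)⁻¹ * ((k : G) * v * (k : G)⁻¹) := by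
                rw [hv]; group
            _ = _ := by rw [hcomm]; rfl
        rw [e]
        exact mul_mem ((mem_Q_iff h _).1 (hstabQ k hk' x hxQ)) hvT
      have h2 := mul_mem (h.closed.2 s hsS _ h1) (inv_mem hsS)
      have e : ((k * x * k⁻¹ * x⁻¹ : X) : G) = (k : G) * s * (k : G)⁻¹ * s⁻¹ := by
        have hsx : s = (x : G) * v := by rw [hv]; group
        show (k : G) * x * (k : G)⁻¹ * (x : G)⁻¹ = _
        calc (k : G) * x * (k : G)⁻¹ * (x : G)⁻¹
            = (k : G) * x * (k : G)⁻¹ * v * v⁻¹ * (x : G)⁻¹ := by group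
          _ = (k : G) * x * (k : G)⁻¹ * ((k : G) * v * (k : G)⁻¹) * v⁻¹ * (x : G)⁻¹ := by rw [hcomm]
          _ = (k : G) * s * (k : G)⁻¹ * s⁻¹ := by rw [hsx]; group
      rw [e]; exact h2
    let M : Type u := {y : X // y ∈ Q ∧ (y : G) ∈ S}
    let f : M → M := fun y => ⟨k * y.1 * k⁻¹ * y.1⁻¹,
      mul_mem (hstabQ k hk' _ y.2.1) (inv_mem y.2.1), by
        have := mul_mem (hconjS k y.1 y.2.2 (hstabQ k hk' _ y.2.1)) (inv_mem y.2.2)
        simpa using this⟩
    have hinj : ∀ y u : X, y ∈ Q → u ∈ Q → k * y * k⁻¹ * y⁻¹ = k * u * k⁻¹ * u⁻¹ → y = u := by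
      intro y u hy hu e
      by_contra hne'
      refine hk1 (fpf h hSw hk (y := u⁻¹ * y) (mul_mem (inv_mem hu) hy)
        (fun e' => hne' (inv_mul_eq_one.1 e').symm) ?_)
      calc k * (u⁻¹ * y) * k⁻¹ = (k * u * k⁻¹)⁻¹ * (k * y * k⁻¹ * y⁻¹) * y := by group
        _ = u⁻¹ * y := by rw [e]; group
    obtain ⟨y, hy⟩ := (Finite.injective_iff_surjective.1
      (fun (y u : M) e => Subtype.ext (hinj y.1 u.1 y.2.1 u.2.1 (congrArg Subtype.val e)) :
        Function.Injective f))
      ⟨k * x * k⁻¹ * x⁻¹, mul_mem (hstabQ k hk' x hxQ) (inv_mem hxQ), hy0⟩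
    exact hxS (hinj y.1 x y.2.1 hxQ (congrArg Subtype.val hy) ▸ y.2.2)
  · -- only one involution of `X` at `a` is fixed by `v`
    push Not at hsecond
    -- involutions of `Q` are central
    have hcentral : ∀ z ∈ BenderSuzuki.invs X a, ∀ y ∈ Q, y * z = z * y := by
      haveI : Nontrivial Q := by
        refine ⟨⟨⟨z₀, ((invs_iff h).1 hz₀).1⟩, 1, fun e => ?_⟩⟩
        exact hz₀.2.1 (congrArg Subtype.val e)
      haveI := h.twoGroup.center_nontrivial
      obtain ⟨c, hc⟩ := Basic.exists_invol (G := ↥(Subgroup.center Q)) (by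
        obtain ⟨n, hn⟩ := IsPGroup.exists_card_eq (h.twoGroup.to_subgroup (Subgroup.center Q))
        have h0 : n ≠ 0 := fun e => by
          have := Finite.one_lt_card (α := ↥(Subgroup.center Q))
          rw [hn, e] at this; exact absurd this (by norm_num)
        rw [hn]; exact (Nat.even_pow' h0).2 even_two)
      rw [← Subgroup.orderOf_coe, ← Subgroup.orderOf_coe] at hc
      intro z hz y hy
      obtain ⟨k, ⟨hk, hkc⟩, -⟩ := existsUnique_K hS
        (s := ((c : Q) : X)) ((invs_iff h).2 ⟨(c : Q).2, hc⟩) hz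
      have hkk : k⁻¹ * y * k ∈ Q := twoStab_norm' hS hk.1 hy
      have := congrArg Subtype.val (Subgroup.mem_center_iff.1 c.2 ⟨_, hkk⟩)
      simp only [Subgroup.coe_mul] at this
      calc y * z = k * (k⁻¹ * y * k * ((c : Q) : X)) * k⁻¹ := by rw [← hkc]; group
        _ = k * (((c : Q) : X) * (k⁻¹ * y * k)) * k⁻¹ := by rw [this]
        _ = z * y := by rw [← hkc]; group
    let Z : Subgroup X :=
      { carrier := {z | z ∈ Q ∧ z * z = 1}
        one_mem' := ⟨one_mem _, one_mul 1⟩
        inv_mem' := fun {z} hz => ⟨inv_mem hz.1, by rw [← mul_inv_rev, hz.2, inv_one]⟩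
        mul_mem' := fun {y z} hy hz => ⟨mul_mem hy.1 hz.1, by
          by_cases hz1 : z = 1
          · rw [hz1, mul_one]; exact hy.2
          · have hyz := hcentral z ⟨hS.le hz.1, hz1, hz.2⟩ y hy.1
            calc y * z * (y * z) = y * z * (z * y) := by rw [hyz]
              _ = y * (z * z) * y := by group
              _ = 1 := by rw [hz.2, mul_one, hy.2]⟩ }
    have hZc : ∀ z ∈ Z, ∀ y ∈ Q, y * z = z * y := fun z hz y hy => by
      by_cases hz1 : z = 1
      · rw [hz1, mul_one, one_mul]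
      · exact hcentral z ⟨hS.le hz.1, hz1, hz.2⟩ y hy
    have hZS : ∀ z ∈ Z, (z : G) ∈ S := fun z hz => by
      by_cases hz1 : z = 1
      · rw [hz1]; exact one_mem S
      · exact invs_mem_S h ⟨hS.le hz.1, hz1, hz.2⟩
    have hZfix : ∀ z ∈ Z, σ z = z → z = 1 ∨ z = z₀ := fun z hz hzσ => by
      by_cases hz1 : z = 1
      · exact Or.inl hz1
      · exact Or.inr (hsecond z ⟨hS.le hz.1, hz1, hz.2⟩ hzσ)
    have hZcard : Nat.card Z = BenderSuzuki.qNum X a := by
      have e : (Z : Set X) = insert 1 (BenderSuzuki.invs X a) := by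
        ext z
        constructor
        · intro hz
          by_cases hz1 : z = 1
          · exact Or.inl hz1
          · exact Or.inr ⟨hS.le hz.1, hz1, hz.2⟩
        · rintro (rfl | hz)
          · exact one_mem Z
          · exact ⟨((invs_iff h).1 hz).1, hz.2.2⟩
      show Nat.card ↥(Z : Set X) = _
      rw [e, Nat.card_coe_set_eq, Set.ncard_insert_of_notMem (fun hh => hh.2.1 rfl),
        BenderSuzuki.qNum, Nat.card_coe_set_eq]
    have hσZ : ∀ z ∈ Z, σ z ∈ Z := fun z hz => ⟨hσQ z hz.1, by rw [← hσmul, hz.2, hσone]⟩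
    -- `q = 4`
    have hq4 : BenderSuzuki.qNum X a = 4 := by
      have hle : Nat.card Z ≤ 4 := by
        have himg : ∀ z : Z, (z : X) * σ z = 1 ∨ (z : X) * σ z = z₀ := fun z => by
          refine hZfix _ (mul_mem z.2 (hσZ _ z.2)) ?_
          rw [hσmul, hσσ, hZc _ z.2 _ (hσQ _ z.2.1)]
        have hker : ∀ z : Z, (z : X) * σ z = 1 → (z : X) = 1 ∨ (z : X) = z₀ := fun z hz => by
          refine hZfix _ z.2 ?_
          calc σ z = ((z : X))⁻¹ := (inv_eq_of_mul_eq_one_right hz).symm
            _ = z := inv_eq_of_mul_eq_one_right z.2.2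
        have hdiff : ∀ z u : Z, (z : X) * σ z = (u : X) * σ u →
            (z : X) * u = 1 ∨ (z : X) * u = z₀ := fun z u e => hker (z * u) (by
          show (z : X) * u * σ ((z : X) * u) = 1
          rw [hσmul]
          calc (z : X) * u * (σ z * σ u) = (z : X) * ((u : X) * σ z) * σ u := by group
            _ = (z : X) * (σ z * (u : X)) * σ u := by rw [hZc _ (hσZ _ z.2) _ u.2.1]
            _ = ((z : X) * σ z) * ((u : X) * σ u) := by group
            _ = ((u : X) * σ u) * ((u : X) * σ u) := by rw [e]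
            _ = 1 := (mul_mem u.2 (hσZ _ u.2)).2)
        have hsub : ∀ z u : Z, (z : X) * σ z = (u : X) * σ u →
            (z : X) = u ∨ (z : X) = z₀ * u := fun z u e => by
          rcases hdiff z u e with h1 | h1
          · left
            calc (z : X) = (z : X) * u * u := by rw [mul_assoc, u.2.2, mul_one]
              _ = u := by rw [h1, one_mul]
          · right
            calc (z : X) = (z : X) * u * u := by rw [mul_assoc, u.2.2, mul_one]
              _ = z₀ * u := by rw [h1]
        by_cases hex : ∃ u : Z, (u : X) * σ u ≠ 1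
        · obtain ⟨u, hu⟩ := hex
          have hsub4 : (Z : Set X) ⊆ ({1, z₀, (u : X), z₀ * (u : X)} : Set X) := by
            intro z hz
            rcases himg ⟨z, hz⟩ with h1 | h1
            · rcases hker ⟨z, hz⟩ h1 with h2 | h2
              · exact Or.inl h2
              · exact Or.inr (Or.inl h2)
            · rcases hsub ⟨z, hz⟩ u (h1.trans ((himg u).resolve_left hu).symm) with h2 | h2
              · exact Or.inr (Or.inr (Or.inl h2))
              · exact Or.inr (Or.inr (Or.inr h2))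
          have := Set.ncard_le_ncard hsub4 (Set.toFinite _)
          refine le_trans (le_of_eq (Nat.card_coe_set_eq (Z : Set X))) (le_trans this ?_)
          refine le_trans (Set.ncard_insert_le _ _) (Nat.succ_le_succ ?_)
          refine le_trans (Set.ncard_insert_le _ _) (Nat.succ_le_succ ?_)
          refine le_trans (Set.ncard_insert_le _ _) ?_
          rw [Set.ncard_singleton]
        · push Not at hex
          have hsub2 : (Z : Set X) ⊆ ({1, z₀} : Set X) := fun z hz => hker ⟨z, hz⟩ (hex ⟨z, hz⟩)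
          have := Set.ncard_le_ncard hsub2 (Set.toFinite _)
          refine le_trans (le_of_eq (Nat.card_coe_set_eq (Z : Set X))) (le_trans this ?_)
          refine le_trans (Set.ncard_insert_le _ _) ?_
          rw [Set.ncard_singleton]; norm_num
      -- two commuting involutions give `|Z| ≥ 3`
      obtain ⟨y, u, hy, hu, hne, hyy, huu, hyu⟩ := h.twoRank
      obtain ⟨c, hc⟩ := exists_fixed hS hy hyy
      haveI := pretransitive hS
      obtain ⟨g, hg⟩ := MulAction.exists_smul_eq X c a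
      have hya : (g * y * g⁻¹) • a = a := by
        rw [← hg, mul_smul, mul_smul, inv_smul_smul, hc.1]
      have hy' : g * y * g⁻¹ ∈ BenderSuzuki.invs X a :=
        ⟨hya, fun e => hy (conj_eq_one_iff.1 e), by rw [Basic.invol_iff.1 ((Basic.orderOf_conj_eq g y).trans (Basic.invol_iff.2 ⟨hyy, hy⟩)) |>.1]⟩
      have hu' : g * u * g⁻¹ ∈ BenderSuzuki.invs X a := by
        refine ⟨?_, fun e => hu (conj_eq_one_iff.1 e),
          (Basic.invol_iff.1 ((Basic.orderOf_conj_eq g u).trans (Basic.invol_iff.2 ⟨huu, hu⟩))).1⟩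
        show (g * u * g⁻¹) • a = a
        refine involution_fix_a hS hy' ?_
        rw [← mul_smul]
        have e : g * y * g⁻¹ * (g * u * g⁻¹) = g * u * g⁻¹ * (g * y * g⁻¹) := by
          calc g * y * g⁻¹ * (g * u * g⁻¹) = g * (y * u) * g⁻¹ := by group
            _ = g * (u * y) * g⁻¹ := by rw [hyu]
            _ = _ := by group
        rw [e, mul_smul, hya]
      have h3 : 3 ≤ Nat.card Z := by
        have hsub : ({1, g * y * g⁻¹, g * u * g⁻¹} : Set X) ⊆ (Z : Set X) := by
          rintro r (rfl | rfl | rfl)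
          · exact one_mem Z
          · exact ⟨((invs_iff h).1 hy').1, hy'.2.2⟩
          · exact ⟨((invs_iff h).1 hu').1, hu'.2.2⟩
        have h' := Set.ncard_le_ncard hsub (Set.toFinite _)
        rw [Set.ncard_insert_of_notMem (by
            simp only [Set.mem_insert_iff, Set.mem_singleton_iff, not_or]
            exact ⟨Ne.symm hy'.2.1, Ne.symm hu'.2.1⟩) (Set.toFinite _),
          Set.ncard_pair (by
            intro e
            exact hne (mul_left_cancel (mul_right_cancel e))), ← Nat.card_coe_set_eq] at h'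
        exact h'
      obtain ⟨n, hn⟩ := IsPGroup.exists_card_eq
        (h.twoGroup.to_le (fun z (hz : z ∈ Z) => hz.1))
      rw [← hZcard]
      rcases n with _ | _ | _ | n
      · omega
      · omega
      · omega
      · have : 8 ≤ 2 ^ (n + 3) := by
          calc 8 = 2 ^ 3 := rfl
            _ ≤ _ := Nat.pow_le_pow_right (by norm_num) (by omega)
        omega
    rw [hq4] at hZcard
    have hxZ : x ∉ Z := fun hh => hxS (hZS x hh)
    have hZQ : Z ≤ Q := fun z hz => hz.1
    -- `Q` has no invariant subgroup strictly between `Z` and `Q`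
    obtain ⟨p, f, hp, hf, hfp, hpQ⟩ : ∃ (p : ℕ) (f : X), p.Prime ∧ f ∈ twoStab X a t ∧ orderOf f = p ∧
        ((p = 3 ∧ Nat.card Q = 16 ∧ f ∈ BenderSuzuki.kSet a t) ∨ (p = 5 ∧ Nat.card Q = 64)) := by
      rcases h.small hq4 with h4 | h16 | ⟨h64, f, hf, hf5⟩
      · exfalso
        have := Subgroup.eq_of_le_of_card_ge hZQ (by rw [hZcard, h4])
        exact hxZ (this ▸ hxQ)
      · have hk3 : Nat.card ↥(BenderSuzuki.kSet a t) = 3 := by
          have := card_invertedBy (G := X) hS
          have hq : Nat.card ↥(BenderSuzuki.invs X a) = 3 := Nat.succ_injective hq4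
          exact this.trans hq
        obtain ⟨k, hk, hk1⟩ : ∃ k ∈ BenderSuzuki.kSet a t, k ≠ 1 := by
          by_contra hh
          push Not at hh
          have : (BenderSuzuki.kSet a t : Set X).ncard ≤ ({1} : Set X).ncard :=
            Set.ncard_le_ncard (fun r hr => hh r hr) (Set.toFinite _)
          rw [← Nat.card_coe_set_eq, hk3, Set.ncard_singleton] at this
          omega
        refine ⟨3, k, Nat.prime_three, hk.1, ?_, Or.inl ⟨rfl, h16, hk⟩⟩
        have hodd : Odd (orderOf k) := hS.odd_card.of_dvd_nat (Subgroup.orderOf_dvd_natCard _ hk.1)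
        have hsub : ((Subgroup.zpowers k : Subgroup X) : Set X) ⊆ BenderSuzuki.kSet a t := by
          rintro r ⟨m, rfl⟩
          refine ⟨zpow_mem hk.1 m, ?_⟩
          show t * k ^ m * t⁻¹ = (k ^ m)⁻¹
          rw [← conj_zpow, hk.2, inv_zpow]
        have := Set.ncard_le_ncard hsub (Set.toFinite _)
        rw [← Nat.card_coe_set_eq, ← Nat.card_coe_set_eq, hk3] at this
        rw [show Nat.card ↥((Subgroup.zpowers k : Subgroup X) : Set X) = orderOf k from
          Nat.card_zpowers k] at this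
        have h1 : orderOf k ≠ 1 := fun e => hk1 (orderOf_eq_one_iff.1 e)
        have hpos := orderOf_pos k
        rw [Nat.odd_iff] at hodd
        omega
      · exact ⟨5, f, by norm_num, hf, hf5, Or.inr ⟨rfl, h64⟩⟩
    haveI : Fact p.Prime := ⟨hp⟩
    have hZf : ∀ z ∈ Z, f * z * f⁻¹ ∈ Z := fun z hz =>
      ⟨hstabQ f hf z hz.1, by
        rw [show f * z * f⁻¹ * (f * z * f⁻¹) = f * (z * z) * f⁻¹ by group, hz.2]; simp⟩
    -- congruence for invariant subgroups
    have hmod : ∀ M : Subgroup X, (∀ y ∈ M, f * y * f⁻¹ ∈ M) →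
        Nat.card M ≡ Nat.card {y : M // f * (y : X) * f⁻¹ = y} [MOD p] := by
      intro M hM
      let e : M → M := fun y => ⟨f * y * f⁻¹, hM _ y.2⟩
      have he : e^[p ^ 1] = id := by
        have : ∀ (n : ℕ) (y : M), ((e^[n] y : M) : X) = f ^ n * y * (f ^ n)⁻¹ := by
          intro n
          induction n with
          | zero => intro y; simp
          | succ n ihn =>
            intro y
            rw [Function.iterate_succ_apply', pow_succ']
            show f * ((e^[n] y : M) : X) * f⁻¹ = _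
            rw [ihn]; group
        funext y
        refine Subtype.ext ?_
        rw [this, pow_one, ← hfp, pow_orderOf_eq_one]
        simp
      haveI := Fintype.ofFinite M
      let g : Function.End M := e
      have hg : g ^ p ^ 1 = 1 := by
        have : ∀ n : ℕ, g ^ n = (e^[n] : M → M) := by
          intro n
          induction n with
          | zero => rfl
          | succ n ihn => rw [pow_succ, ihn, Function.iterate_succ]; rfl
        rw [this, he]; rfl
      have := Equiv.Perm.card_fixedPoints_modEq hg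
      rw [← Nat.card_eq_fintype_card, ← Nat.card_eq_fintype_card] at this
      refine this.trans (congrArg (· % p) ?_)
      refine Nat.card_congr (Equiv.subtypeEquivRight fun y => ?_)
      exact ⟨fun hy => congrArg Subtype.val hy, fun hy => Subtype.ext hy⟩
    have hirr : ∀ M : Subgroup X, Z ≤ M → M ≤ Q → (∀ y ∈ M, f * y * f⁻¹ ∈ M) →
        M = Z ∨ M = Q := by
      intro M hZM hMQ hM
      obtain ⟨n, hn⟩ := IsPGroup.exists_card_eq (h.twoGroup.to_le hMQ)
      have hge : 4 ≤ Nat.card M := hZcard ▸ Subgroup.card_le_of_le hZM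
      have hle := Subgroup.card_le_of_le hMQ
      have hm := hmod M hM
      rcases hpQ with ⟨rfl, h16, hfk⟩ | ⟨rfl, h64⟩
      · have hfix : Nat.card {y : M // f * (y : X) * f⁻¹ = y} = 1 := by
          rw [Nat.card_eq_one_iff_exists]
          refine ⟨⟨1, by simp⟩, fun y => Subtype.ext (Subtype.ext ?_)⟩
          by_contra hy1
          have hf1 := fpf h hS hfk (hMQ y.1.2) hy1 y.2
          rw [hf1, orderOf_one] at hfp
          norm_num at hfp
        rw [hfix, hn] at hm
        have hn4 : n ≤ 4 := by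
          by_contra hh
          have : 32 ≤ 2 ^ n := by
            calc 32 = 2 ^ 5 := rfl
              _ ≤ _ := Nat.pow_le_pow_right (by norm_num) (by omega)
          omega
        interval_cases n
        all_goals first
          | omega
          | (left; exact (Subgroup.eq_of_le_of_card_ge hZM (by omega)).symm)
          | (right; exact Subgroup.eq_of_le_of_card_ge hMQ (by omega))
          | (exfalso; revert hm; decide)
      · -- `f` centralises `Z` and then only `Z`
        have hfZ : ∀ z ∈ Z, f * z * f⁻¹ = z := by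
          have hm' := hmod Z hZf
          rw [hZcard] at hm'
          have hle' : Nat.card {y : Z // f * (y : X) * f⁻¹ = y} ≤ Nat.card Z :=
            Finite.card_subtype_le _
          rw [hZcard] at hle'
          have h4 : Nat.card {y : Z // f * (y : X) * f⁻¹ = y} = Nat.card Z := by
            rw [hZcard]
            unfold Nat.ModEq at hm'
            omega
          intro z hz
          have hbij := (Nat.bijective_iff_injective_and_card
            (fun y : {y : Z // f * (y : X) * f⁻¹ = y} => y.1)).2 ⟨Subtype.val_injective, h4⟩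
          obtain ⟨y, hy⟩ := hbij.2 ⟨z, hz⟩
          have := y.2
          rw [show (y.1 : X) = z from congrArg Subtype.val hy] at this
          exact this
        let C : Subgroup X := Q ⊓ Subgroup.centralizer ({f} : Set X)
        have hC : ∀ y, y ∈ C ↔ y ∈ Q ∧ f * y * f⁻¹ = y := fun y => by
          rw [Subgroup.mem_inf, Subgroup.mem_centralizer_singleton_iff]
          exact and_congr Iff.rfl ⟨fun e => mul_inv_eq_iff_eq_mul.2 e.symm,
            fun e => (mul_inv_eq_iff_eq_mul.1 e).symm⟩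
        have hZC : Z ≤ C := fun z hz => (hC z).2 ⟨hz.1, hfZ z hz⟩
        have hmQ := hmod Q (fun y hy => hstabQ f hf y hy)
        have hfixQ : Nat.card {y : Q // f * (y : X) * f⁻¹ = y} = Nat.card C := by
          refine Nat.card_congr
            { toFun := fun y => ⟨y.1.1, (hC _).2 ⟨y.1.2, y.2⟩⟩
              invFun := fun y => ⟨⟨y.1, ((hC _).1 y.2).1⟩, ((hC _).1 y.2).2⟩
              left_inv := fun _ => rfl
              right_inv := fun _ => rfl }
        rw [hfixQ, h64] at hmQ
        have hCZ : C = Z := by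
          obtain ⟨m, hm2⟩ : ∃ m, Nat.card C = 2 ^ m :=
            IsPGroup.exists_card_eq (h.twoGroup.to_le (inf_le_left : C ≤ Q))
          have hge' : 4 ≤ Nat.card C := hZcard ▸ Subgroup.card_le_of_le hZC
          have hle' : Nat.card C ≤ 64 := h64 ▸ Subgroup.card_le_of_le inf_le_left
          have hm6 : m ≤ 6 := by
            by_contra hh
            have : 128 ≤ 2 ^ m := by
              calc 128 = 2 ^ 7 := rfl
                _ ≤ _ := Nat.pow_le_pow_right (by norm_num) (by omega)
            omega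
          rw [hm2] at hmQ
          interval_cases m
          all_goals first
            | omega
            | exact (Subgroup.eq_of_le_of_card_ge hZC (by omega)).symm
            | (exfalso; revert hmQ; decide)
            | (exfalso
               have hCQ : C = Q := Subgroup.eq_of_le_of_card_ge inf_le_left (by omega)
               have hf1 : f = 1 := by
                 refine eq_of_smul_eq_smul (α := Ω) fun c => ?_
                 rw [one_smul]
                 obtain ⟨fa, fb⟩ := mem_twoStab.1 hf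
                 by_cases hc : c = a
                 · rw [hc, fa]
                 · obtain ⟨y, hy, rfl⟩ := Q_trans hS hba hc
                   have := ((hC y).1 (hCQ ▸ hy)).2
                   rw [← mul_smul, mul_inv_eq_iff_eq_mul.1 this, mul_smul, hb, fb]
               rw [hf1, orderOf_one] at hfp
               norm_num at hfp)
        have hfixM : Nat.card {y : M // f * (y : X) * f⁻¹ = y} = Nat.card Z := by
          refine Nat.card_congr
            { toFun := fun y => ⟨y.1.1, hCZ ▸ (hC _).2 ⟨hMQ y.1.2, y.2⟩⟩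
              invFun := fun z => ⟨⟨z.1, hZM z.2⟩, hfZ _ z.2⟩
              left_inv := fun _ => rfl
              right_inv := fun _ => rfl }
        rw [hfixM, hZcard, hn] at hm
        have hn6 : n ≤ 6 := by
          by_contra hh
          have : 128 ≤ 2 ^ n := by
            calc 128 = 2 ^ 7 := rfl
              _ ≤ _ := Nat.pow_le_pow_right (by norm_num) (by omega)
          omega
        interval_cases n
        all_goals first
          | omega
          | (left; exact (Subgroup.eq_of_le_of_card_ge hZM (by omega)).symm)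
          | (right; exact Subgroup.eq_of_le_of_card_ge hMQ (by omega))
          | (exfalso; revert hm; decide)
    -- `Q` is special
    let com : X → X → X := fun y u => y * u * y⁻¹ * u⁻¹
    have hcomm2 : ∀ y ∈ Q, ∀ u ∈ Q, com y u ∈ Z := by
      let Z2 : Subgroup X :=
        { carrier := {y | y ∈ Q ∧ ∀ u ∈ Q, com y u ∈ Z}
          one_mem' := ⟨one_mem _, fun u _ => by simp [com]⟩
          mul_mem' := fun {y r} hy hr => ⟨mul_mem hy.1 hr.1, fun u hu => by
            have hc1 := hy.2 u hu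
            have hc2 := hr.2 u hu
            have e : com (y * r) u = y * com r u * y⁻¹ * com y u := by simp only [com]; group
            rw [e]
            rw [hZc _ hc2 y hy.1, mul_inv_cancel_right]
            exact mul_mem hc2 hc1⟩
          inv_mem' := fun {y} hy => ⟨inv_mem hy.1, fun u hu => by
            have e : com y⁻¹ u = y⁻¹ * (com y u)⁻¹ * y := by simp only [com]; group
            rw [e]
            have := hZc _ (inv_mem (hy.2 u hu)) _ (inv_mem hy.1)
            rw [this, inv_mul_cancel_right]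
            exact inv_mem (hy.2 u hu)⟩ }
      have hZ2 : Z ≤ Z2 := fun z hz => ⟨hz.1, fun u hu => by
        have : com z u = 1 := by simp only [com]; rw [← hZc z hz u hu]; group
        rw [this]; exact one_mem Z⟩
      have hinv : ∀ y ∈ Z2, f * y * f⁻¹ ∈ Z2 := fun y hy => ⟨hstabQ f hf y hy.1, fun u hu => by
        have hu' : f⁻¹ * u * f ∈ Q := twoStab_norm' hS hf hu
        have e : com (f * y * f⁻¹) u = f * com y (f⁻¹ * u * f) * f⁻¹ := by simp only [com]; group
        rw [e]; exact hZf _ (hy.2 _ hu')⟩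
      rcases hirr Z2 hZ2 (fun y hy => hy.1) hinv with h2 | h2
      · exfalso
        -- a central element of `Q / Z`
        haveI : (Z.subgroupOf Q).Normal := ⟨fun z hz y => by
          rw [Subgroup.mem_subgroupOf] at hz ⊢
          show (y : X) * z * (y : X)⁻¹ ∈ Z
          rw [hZc _ hz _ y.2, mul_inv_cancel_right]; exact hz⟩
        haveI : Nontrivial (Q ⧸ Z.subgroupOf Q) :=
          ⟨⟨QuotientGroup.mk ⟨x, hxQ⟩, 1, fun e => hxZ (Subgroup.mem_subgroupOf.1 ((QuotientGroup.eq_one_iff (⟨x, hxQ⟩ : Q)).1 e))⟩⟩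
        haveI := (h.twoGroup.to_quotient (Z.subgroupOf Q)).center_nontrivial
        obtain ⟨⟨c, hc⟩, hc1⟩ := exists_ne (1 : Subgroup.center (Q ⧸ Z.subgroupOf Q))
        obtain ⟨y, rfl⟩ := QuotientGroup.mk_surjective c
        have hy2 : (y : X) ∈ Z2 := ⟨y.2, fun u hu => by
          have h1 := Subgroup.mem_center_iff.1 hc (QuotientGroup.mk ⟨u, hu⟩)
          have h3 : ((y * ⟨u, hu⟩ * y⁻¹ * (⟨u, hu⟩ : Q)⁻¹ : Q) : Q ⧸ Z.subgroupOf Q) = 1 := by
            simp only [QuotientGroup.mk_mul, QuotientGroup.mk_inv]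
            rw [← h1]; group
          exact Subgroup.mem_subgroupOf.1 ((QuotientGroup.eq_one_iff (y * ⟨u, hu⟩ * y⁻¹ * (⟨u, hu⟩ : Q)⁻¹)).1 h3)⟩
        rw [h2] at hy2
        exact hc1 (Subtype.ext ((QuotientGroup.eq_one_iff y).2 (Subgroup.mem_subgroupOf.2 hy2)))
      · intro y hy u hu
        exact ((h2.symm ▸ hy : y ∈ Z2)).2 u hu
    have hSQ : ∀ y ∈ Q, (y : G) ∈ S → y ∈ Z := by
      let M : Subgroup X := Q ⊓ S.subgroupOf X
      rcases hirr M (fun z hz => ⟨hz.1, Subgroup.mem_subgroupOf.2 (hZS z hz)⟩) inf_le_left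
        (fun y hy => ⟨hstabQ f hf y hy.1, Subgroup.mem_subgroupOf.2
          (hconjS f y (Subgroup.mem_subgroupOf.1 hy.2) (hstabQ f hf y hy.1))⟩) with h2 | h2
      · exact fun y hy hyS => h2 ▸ (⟨hy, Subgroup.mem_subgroupOf.2 hyS⟩ : y ∈ M)
      · exact absurd (Subgroup.mem_subgroupOf.1 ((h2.symm ▸ hxQ : x ∈ M)).2) hxS
    have hsq : ∀ y ∈ Q, y * y ∈ Z := by
      let Z3 : Subgroup X :=
        { carrier := {y | y ∈ Q ∧ y * y ∈ Z}
          one_mem' := ⟨one_mem _, by simp⟩
          mul_mem' := fun {y r} hy hr => ⟨mul_mem hy.1 hr.1, by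
            have hc := hcomm2 r hr.1 y hy.1
            have e : y * r * (y * r) = y * com r y * y⁻¹ * (y * y) * (r * r) := by
              simp only [com]; group
            rw [e, hZc _ hc y hy.1, mul_inv_cancel_right]
            exact mul_mem (mul_mem hc hy.2) hr.2⟩
          inv_mem' := fun {y} hy => ⟨inv_mem hy.1, by rw [← mul_inv_rev]; exact inv_mem hy.2⟩ }
      have hZ3 : Z ≤ Z3 := fun z hz => ⟨hz.1, hz.2.symm ▸ one_mem Z⟩
      rcases hirr Z3 hZ3 (fun y hy => hy.1) (fun y hy => ⟨hstabQ f hf y hy.1, by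
          rw [show f * y * f⁻¹ * (f * y * f⁻¹) = f * (y * y) * f⁻¹ by group]
          exact hZf _ hy.2⟩) with h3 | h3
      · exfalso
        -- the last power of `x` outside `Z`
        obtain ⟨m, hm⟩ := IsPGroup.iff_orderOf.1 h.twoGroup ⟨x, hxQ⟩
        rw [Subgroup.orderOf_mk] at hm
        have hex : ∃ m : ℕ, x ^ 2 ^ m ∈ Z := ⟨m, by rw [← hm, pow_orderOf_eq_one]; exact one_mem Z⟩
        have hspec := Nat.find_spec hex
        obtain ⟨l, hl⟩ : ∃ l, Nat.find hex = l + 1 := Nat.exists_eq_succ_of_ne_zero fun h0 => by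
          rw [h0, pow_zero, pow_one] at hspec; exact hxZ hspec
        rw [hl, pow_succ, pow_mul, pow_two] at hspec
        have hmem : x ^ 2 ^ l ∈ Z3 := ⟨pow_mem hxQ _, hspec⟩
        exact Nat.find_min hex (by omega) (h3 ▸ hmem)
      · intro y hy
        exact ((h3.symm ▸ hy : y ∈ Z3)).2
    -- `v` moves every element of `Q` inside `{1, z₀}`
    have hd : ∀ y ∈ Q, y * (σ y)⁻¹ = 1 ∨ y * (σ y)⁻¹ = z₀ := by
      intro y hy
      have hyT := (mem_Q_iff h y).1 hy
      have h1 : (y : G) * s * (y : G)⁻¹ * s⁻¹ ∈ S := mul_mem (h.closed.2 s hsS _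
        (mul_mem (mul_mem hyT (h.closed.1 hsS)) (inv_mem hyT))) (inv_mem hsS)
      have h2X : (y : G) * s * (y : G)⁻¹ * s⁻¹ ∈ X := by
        have e : (y : G) * s * (y : G)⁻¹ * s⁻¹ = (y : G) * (s * (y : G)⁻¹ * s⁻¹) := by group
        rw [e]; exact mul_mem y.2 (hconjX _ _ (inv_mem y.2))
      set r : X := ⟨_, h2X⟩ with hr
      have hrQ : r ∈ Q := (mem_Q_iff h r).2 (h.closed.1 h1)
      have hrZ : r ∈ Z := hSQ r hrQ h1
      have hc := hcomm2 y hy x⁻¹ (inv_mem hxQ)
      have e : y * (σ y)⁻¹ = com y x⁻¹ * (x⁻¹ * r * x) := Subtype.ext (by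
        show (y : G) * (v * y * v⁻¹)⁻¹ = (y : G) * (x : G)⁻¹ * (y : G)⁻¹ * ((x : G)⁻¹)⁻¹ *
          ((x : G)⁻¹ * ((y : G) * s * (y : G)⁻¹ * s⁻¹) * x)
        rw [hv]; group)
      have hz : y * (σ y)⁻¹ ∈ Z := by
        rw [e, hZc r hrZ _ (inv_mem hxQ), inv_mul_cancel_right]
        exact mul_mem hc hrZ
      refine hZfix _ hz ?_
      calc σ (y * (σ y)⁻¹) = σ y * y⁻¹ := by rw [hσmul, hσinv, hσσ]
        _ = (y * (σ y)⁻¹)⁻¹ := by group
        _ = y * (σ y)⁻¹ := inv_eq_of_mul_eq_one_right hz.2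
    -- squares
    have hsqfix : ∀ y ∈ Q, σ (y * y) = y * y := by
      intro y hy
      have hz0Z : z₀ ∈ Z := ⟨((invs_iff h).1 hz₀).1, hz₀.2.2⟩
      rcases hd y hy with h1 | h1
      · rw [mul_inv_eq_one] at h1
        rw [hσmul, ← h1]
      · have h2 : σ y = z₀⁻¹ * y := by rw [← h1]; group
        rw [hσmul, h2, inv_eq_of_mul_eq_one_right hz₀.2.2]
        calc z₀ * y * (z₀ * y) = z₀ * (y * z₀) * y := by group
          _ = z₀ * (z₀ * y) * y := by rw [hZc z₀ hz0Z y hy]
          _ = z₀ * z₀ * (y * y) := by group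
          _ = y * y := by rw [hz₀.2.2, one_mul]
    have hxx : x * x = z₀ := (hZfix _ (hsq x hxQ) (hsqfix x hxQ)).resolve_left
      fun e => hxZ ⟨hxQ, e⟩
    -- another involution is a square as well
    obtain ⟨z₁, hz₁, hne⟩ : ∃ z₁ ∈ BenderSuzuki.invs X a, z₁ ≠ z₀ := by
      by_contra hh
      push Not at hh
      have : (BenderSuzuki.invs X a).ncard ≤ ({z₀} : Set X).ncard :=
        Set.ncard_le_ncard (fun r hr => hh r hr) (Set.toFinite _)
      rw [Set.ncard_singleton, ← Nat.card_coe_set_eq] at this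
      have hq : Nat.card ↥(BenderSuzuki.invs X a) + 1 = 4 := hq4
      omega
    obtain ⟨k, ⟨hk, hkz⟩, -⟩ := existsUnique_K hS hz₀ hz₁
    have hy' := hstabQ k hk.1 x hxQ
    have e : k * x * k⁻¹ * (k * x * k⁻¹) = z₁ := by
      rw [← hkz, ← hxx]; group
    rcases hZfix _ (hsq _ hy') (hsqfix _ hy') with h5 | h5
    · rw [e] at h5; exact hz₁.2.1 h5
    · rw [e] at h5; exact hne h5

end Cfsg.Agent.Lib.Crit59.Regular
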