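import Cfsg.Agent.Lib.Crit59.Regular
import Cfsg.Agent.Lib.BenderConsumers23.Structure
import Cfsg.Agent.Lib.BenderOne.Final
import Cfsg.Agent.Lib.BenderSuzuki.Main

/-!
# The strongly closed subgroup lies in `<D>` when `<D>` has two commuting involutions

The action on `G/H`, made faithful, turns the strongly embedded subgroup `H ∩ <D>` into a rank-one
set-up by Bender's theorem, so `Regular.le_socle` applies.
-/

set_option autoImplicit false
set_option linter.style.haveILetI false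

universe u

namespace Cfsg.Agent.Lib.Crit59.Socle

open MulAction
open Cfsg.Agent.Lib.Involutions

/-- A set-up moved along an equivariant bijection. -/
theorem setup_congr {G : Type u} {Ω Ω' : Type*} [Group G] [MulAction G Ω] [MulAction G Ω']
    (f : Ω ≃ Ω') (hf : ∀ (g : G) (c : Ω), f (g • c) = g • f c) {a : Ω} {t : G} {Q : Subgroup G}
    (h : Cfsg.IsRankOneSetup G Ω a t Q) : Cfsg.IsRankOneSetup G Ω' (f a) t Q := by
  have hs : ∀ c : Ω, stabilizer G (f c) = stabilizer G c := fun c => by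
    ext g
    simp [MulAction.mem_stabilizer_iff, ← hf]
  have ht : stabilizer G (t • f a) = stabilizer G (t • a) := by rw [← hf, hs]
  refine ⟨?_, h.mul_self, h.ne_one, by rw [hs]; exact h.not_mem, by rw [hs]; exact h.le,
    by rw [hs]; exact h.conj_mem, by rw [ht]; exact h.inf_eq_bot,
    by rw [ht, hs]; exact h.sup_eq, h.even_card, by rw [ht, hs]; exact h.odd_card⟩
  have := h.two_transitive
  rw [MulAction.is_two_pretransitive_iff] at this ⊢
  intro p q r s hpq hrs
  obtain ⟨g, h1, h2⟩ := this (a := f.symm p) (b := f.symm q) (c := f.symm r) (d := f.symm s)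
    (fun e => hpq (f.symm.injective e)) (fun e => hrs (f.symm.injective e))
  refine ⟨g, ?_, ?_⟩
  · rw [← f.apply_symm_apply p, ← hf, h1, f.apply_symm_apply]
  · rw [← f.apply_symm_apply q, ← hf, h2, f.apply_symm_apply]

variable {G : Type u} [Group G] [Finite G]

/-- The main result. -/
theorem le_closure (T : Sylow 2 G) {S H : Subgroup G}
    (hsc : Cfsg.IsStronglyClosed S (T : Subgroup G))
    (hC : ∀ s ∈ S, orderOf s = 2 → Subgroup.centralizer ({s} : Set G) ≤ H)
    (hN : Subgroup.normalizer ((T : Subgroup G) : Set G) ≤ H) (hS : S ≠ ⊥) (hH : H ≠ ⊤)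
    (hSE : Cfsg.IsStronglyEmbedded (H.subgroupOf (Subgroup.closure (invClosure S))))
    (h2 : BenderSuzuki.TwoRank ↥(Subgroup.closure (invClosure S))) :
    S ≤ Subgroup.closure (invClosure S) := by
  classical
  haveI : Fact (Nat.Prime 2) := ⟨Nat.prime_two⟩
  have hset := setting_closed T hsc hC hN hS hH
  have hTH : (T : Subgroup G) ≤ H := Subgroup.le_normalizer.trans hN
  set X : Subgroup G := Subgroup.closure (invClosure S) with hX
  haveI hXn : X.Normal := by
    refine ⟨fun x hx g => ?_⟩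
    have := (Subgroup.closure_le (X.comap (MulAut.conj g).toMonoidHom)).2 ?_ hx
    · simpa using this
    intro y hy
    exact Subgroup.subset_closure (hset.conj y hy g)
  obtain ⟨z, hzS, hz, -⟩ := exists_central_invol T hS hsc
  have hzD : z ∈ invClosure S := ⟨hz, 1, by simpa using hzS⟩
  have hzX : z ∈ X := Subgroup.subset_closure hzD
  have hzH : z ∈ H := hTH (hsc.1 hzS)
  -- every involution of `X` is a member
  have hall : ∀ y : X, orderOf y = 2 → (y : G) ∈ invClosure S := by
    intro y hy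
    obtain ⟨g, hg⟩ := isConj_iff.1 (StronglyEmbedded.isConj_involutions hSE
      (s := (⟨z, hzX⟩ : X)) (t := y) (by rw [Subgroup.orderOf_mk, hz]) hy)
    rw [← hg]
    exact hset.conj z hzD g
  set a : G ⧸ H := ((1 : G) : G ⧸ H) with ha
  have hfixa : ∀ g : G, g • a = a ↔ g ∈ H := fun g => by
    rw [ha, StronglyEmbedded.smul_coset_eq_iff]; simp
  -- members of `S` fix `a` only
  have hsemi : ∀ s ∈ S, s ≠ 1 → ∀ c : G ⧸ H, s • c = c → c = a := by
    intro s hs hs1 c hc
    induction c using QuotientGroup.induction_on with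
    | H g =>
      rw [StronglyEmbedded.smul_coset_eq_iff] at hc
      obtain ⟨j, hj⟩ := IsPGroup.iff_orderOf.1 T.2 ⟨s, hsc.1 hs⟩
      rw [Subgroup.orderOf_mk] at hj
      obtain ⟨i, rfl⟩ : ∃ i, j = i + 1 := Nat.exists_eq_succ_of_ne_zero fun h0 => hs1 (by
        rw [h0, pow_zero, orderOf_eq_one_iff] at hj; exact hj)
      have hu : orderOf (s ^ 2 ^ i) = 2 := by
        rw [orderOf_pow' _ (by positivity), hj, pow_succ,
          Nat.gcd_eq_right (dvd_mul_right _ _), Nat.mul_div_cancel_left _ (by positivity)]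
      have h1 : g⁻¹ * s ^ 2 ^ i * g⁻¹⁻¹ ∈ H := by
        rw [← conj_pow, inv_inv]; exact pow_mem hc _
      have := hset.fix _ ⟨hu, 1, by simpa using pow_mem hs _⟩ (hTH (hsc.1 (pow_mem hs _))) _ h1
      rw [ha, QuotientGroup.eq]
      simpa using this
  -- the quotient by the kernel of `X`
  let N : Subgroup G := X ⊓ H.normalCore
  haveI hNn : N.Normal := ⟨fun n hn g => Subgroup.mem_inf.2
    ⟨hXn.conj_mem n (Subgroup.mem_inf.1 hn).1 g,
      (Subgroup.normalCore_normal H).conj_mem n (Subgroup.mem_inf.1 hn).2 g⟩⟩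
  let π : G →* G ⧸ N := QuotientGroup.mk' N
  have hπs : Function.Surjective π := QuotientGroup.mk'_surjective N
  letI act : MulAction (G ⧸ N) (G ⧸ H) := MulAction.compHom (G ⧸ H)
    (QuotientGroup.lift N (MulAction.toPermHom G (G ⧸ H)) fun n hn => by
      rw [← Subgroup.normalCore_eq_ker]
      exact (Subgroup.mem_inf.1 hn).2)
  have hπ : ∀ (g : G) (c : G ⧸ H), π g • c = g • c := fun g c => rfl
  have hπ1 : ∀ g : G, π g = 1 ↔ g ∈ N := fun g => QuotientGroup.eq_one_iff g
  let Xb : Subgroup (G ⧸ N) := X.map π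
  haveI : Xb.Normal := Subgroup.Normal.map hXn π hπs
  let Tb : Sylow 2 (G ⧸ N) := T.mapSurjective hπs
  have hTb : (Tb : Subgroup (G ⧸ N)) = (T : Subgroup G).map π := rfl
  let Sb : Subgroup (G ⧸ N) := S.map π
  -- the kernel meets `X` in odd order
  have hker : ∀ y : X, π (y : G) = 1 → Odd (orderOf y) := by
    intro y hy
    by_contra hev
    rw [Nat.not_odd_iff_even, even_iff_two_dvd] at hev
    obtain ⟨c, hcz, hc⟩ : ∃ c ∈ Subgroup.zpowers y, orderOf c = 2 :=
      ⟨y ^ (orderOf y / 2), Subgroup.pow_mem _ (Subgroup.mem_zpowers y) _, by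
        rw [orderOf_pow' _ (by have := orderOf_pos y; omega),
          Nat.gcd_eq_right (Nat.div_dvd_of_dvd hev), Nat.div_div_self hev (orderOf_pos y).ne']⟩
    obtain ⟨m, rfl⟩ := Subgroup.mem_zpowers_iff.1 hcz
    have hcK : ∀ g : G, g⁻¹ * ((y ^ m : X) : G) * g ∈ H := fun g => by
      rw [← StronglyEmbedded.smul_coset_eq_iff, ← hπ]
      have : π ((y ^ m : X) : G) = 1 := by
        rw [SubgroupClass.coe_zpow, map_zpow, hy, one_zpow]
      rw [this, one_smul]
    have hcH : ((y ^ m : X) : G) ∈ H := by simpa using hcK 1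
    refine hH (eq_top_iff.2 fun g _ => ?_)
    have := hset.fix _ (hall _ hc) hcH g⁻¹ (by simpa using hcK g)
    simpa using inv_mem this
  -- lifting involutions of the image
  have hlift : ∀ p : Xb, orderOf p = 2 → ∃ y : X, orderOf y = 2 ∧ π (y : G) = p := by
    rintro ⟨_, y, hy, rfl⟩ hp
    have hp : orderOf (π y) = 2 := by rw [← Subgroup.orderOf_coe] at hp; exact hp
    set w : X := ⟨y, hy⟩ with hw
    obtain ⟨k, m, hm, hym⟩ := Nat.exists_eq_two_pow_mul_odd (orderOf_pos w).ne'
    refine ⟨w ^ m, ?_, ?_⟩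
    · have hπm : π ((w ^ m : X) : G) = π y := by
        obtain ⟨j, rfl⟩ := hm
        rw [SubgroupClass.coe_pow, map_pow, hw]
        rw [pow_succ, pow_mul]
        show (π y ^ 2) ^ j * π y = π y
        rw [← hp, pow_orderOf_eq_one, one_pow, one_mul]
      have ho : orderOf (w ^ m) = 2 ^ k := by
        rw [orderOf_pow' _ hm.pos.ne', hym, Nat.gcd_eq_right (dvd_mul_left _ _),
          Nat.mul_div_cancel _ hm.pos]
      rcases k with _ | k
      · exfalso
        rw [pow_zero, orderOf_eq_one_iff] at ho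
        rw [ho, Subgroup.coe_one, map_one] at hπm
        rw [← hπm, orderOf_one] at hp
        exact absurd hp (by norm_num)
      · rcases k with _ | k
        · rw [ho]; norm_num
        · exfalso
          have h1 : π (((w ^ m) ^ 2 : X) : G) = 1 := by
            rw [SubgroupClass.coe_pow, map_pow, hπm, ← hp, pow_orderOf_eq_one]
          have h2' := hker _ h1
          rw [orderOf_pow' _ two_ne_zero, ho, pow_succ, Nat.gcd_eq_right (dvd_mul_left _ _),
            Nat.mul_div_cancel _ (by norm_num)] at h2'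
          exact Nat.not_even_iff_odd.2 h2' ((Nat.even_pow' (by omega)).2 even_two)
    · obtain ⟨j, rfl⟩ := hm
      rw [SubgroupClass.coe_pow, map_pow, hw]
      rw [pow_succ, pow_mul]
      show (π y ^ 2) ^ j * π y = π y
      rw [← hp, pow_orderOf_eq_one, one_pow, one_mul]
  -- an element conjugate into `S` whose image is in the image of `T`
  have himage : ∀ w : G, (∃ g : G, g * w * g⁻¹ ∈ S) → π w ∈ (Tb : Subgroup (G ⧸ N)) → π w ∈ Sb := by
    intro w ⟨g, hg⟩ hw
    let U : Subgroup G := (Tb : Subgroup (G ⧸ N)).comap π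
    have hTU : (T : Subgroup G) ≤ U := fun x hx => ⟨x, hx, rfl⟩
    have hpw : IsPGroup 2 ↥((Subgroup.zpowers w).subgroupOf U) := by
      have h1 : IsPGroup 2 ↥(Subgroup.zpowers w) := by
        obtain ⟨j, hj⟩ := IsPGroup.iff_orderOf.1 T.2 ⟨g * w * g⁻¹, hsc.1 hg⟩
        rw [Subgroup.orderOf_mk, Basic.orderOf_conj_eq] at hj
        exact IsPGroup.of_card (n := j) (by rw [Nat.card_zpowers, hj])
      exact h1.comap_subtype
    obtain ⟨R, hR⟩ := hpw.exists_le_sylow
    obtain ⟨u, hu⟩ := MulAction.exists_smul_eq U R (T.subtype hTU)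
    have h1 : u * ⟨w, hw⟩ * u⁻¹ ∈ (T.subtype hTU : Subgroup U) := by
      rw [← hu, Sylow.coe_subgroup_smul]
      exact Subgroup.smul_mem_pointwise_smul (a := MulAut.conj u) _ (R : Subgroup U)
        (hR (Subgroup.mem_subgroupOf.2 (Subgroup.mem_zpowers w)))
    rw [Sylow.coe_subtype, Subgroup.mem_subgroupOf] at h1
    have h2 : (u : G) * w * (u : G)⁻¹ ∈ S := by
      have e : (u : G) * g⁻¹ * (g * w * g⁻¹) * ((u : G) * g⁻¹)⁻¹ = (u : G) * w * (u : G)⁻¹ := by
        group
      have := hsc.2 _ hg ((u : G) * g⁻¹) (e.symm ▸ h1)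
      rwa [e] at this
    obtain ⟨τ, hτ, hτu⟩ := u.2
    have h3 : τ⁻¹ * ((u : G) * w * (u : G)⁻¹) * τ⁻¹⁻¹ ∈ S :=
      (Subgroup.mem_normalizer_iff.1 (normalizer_le_of_closed hsc
        (Subgroup.le_normalizer (inv_mem hτ))) _).1 h2
    refine ⟨_, h3, ?_⟩
    simp only [map_mul, map_inv, hτu]
    group
  have hTfix : ∀ p ∈ (Tb : Subgroup (G ⧸ N)), p • a = a := by
    rintro _ ⟨x, hx, rfl⟩
    exact (hfixa x).2 (hTH hx)
  have hclosed : Cfsg.IsStronglyClosed Sb (Tb : Subgroup (G ⧸ N)) := by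
    refine ⟨Subgroup.map_mono hsc.1, ?_⟩
    rintro _ ⟨s, hs, rfl⟩ p hp
    obtain ⟨g, rfl⟩ := hπs p
    rw [← map_inv, ← map_mul, ← map_mul] at hp ⊢
    exact himage _ ⟨g⁻¹, by simpa [mul_assoc] using hs⟩ hp
  haveI : FaithfulSMul Xb (G ⧸ H) := by
    refine ⟨fun {p q} e => ?_⟩
    obtain ⟨_, g, hg, rfl⟩ := p
    obtain ⟨_, r, hr, rfl⟩ := q
    refine Subtype.ext ?_
    show π g = π r
    rw [← inv_mul_eq_one, ← map_inv, ← map_mul, hπ1]
    refine Subgroup.mem_inf.2 ⟨mul_mem (inv_mem hg) hr, ?_⟩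
    rw [Subgroup.normalCore_eq_ker, MonoidHom.mem_ker]
    refine Equiv.ext fun c => ?_
    show (g⁻¹ * r) • c = c
    rw [mul_smul, inv_smul_eq_iff]
    exact (e c).symm
  haveI : IsPretransitive Xb (G ⧸ H) := by
    haveI : IsPretransitive X (G ⧸ H) := by
      refine (MulAction.isPretransitive_iff_base (G := X) a).2 fun c => ?_
      induction c using QuotientGroup.induction_on with
      | H g =>
        obtain ⟨y, hy⟩ := isConj_iff.1 (StronglyEmbedded.isConj_involutions hSE
          (s := (⟨z, hzX⟩ : X)) (t := (⟨g * z * g⁻¹, hXn.conj_mem z hzX g⟩ : X))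
          (by rw [Subgroup.orderOf_mk, hz])
          (by rw [Subgroup.orderOf_mk, Basic.orderOf_conj_eq, hz]))
        refine ⟨y, ?_⟩
        show ((y : G) • a) = _
        rw [ha, MulAction.Quotient.smul_mk, smul_eq_mul, mul_one, eq_comm, QuotientGroup.eq]
        have hy' : (y : G) * z * (y : G)⁻¹ = g * z * g⁻¹ := congrArg Subtype.val hy
        have hm : g⁻¹ * (y : G) * z * (g⁻¹ * (y : G))⁻¹ ∈ H := by
          have e : g⁻¹ * (y : G) * z * (g⁻¹ * (y : G))⁻¹ = g⁻¹ * ((y : G) * z * (y : G)⁻¹) * g := by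
            group
          rw [e, hy']
          simpa [mul_assoc] using hzH
        exact hset.fix z hzD hzH _ hm
    refine ⟨fun c d => ?_⟩
    obtain ⟨y, hy⟩ := MulAction.exists_smul_eq X c d
    exact ⟨⟨π (y : G), ⟨y, y.2, rfl⟩⟩, hy⟩
  let H' : Subgroup Xb := stabilizer Xb a
  have hmemH' : ∀ y : X, (⟨π (y : G), ⟨y, y.2, rfl⟩⟩ : Xb) ∈ H' ↔ (y : G) ∈ H := fun y =>
    hfixa (y : G)
  have hSE' : Cfsg.IsStronglyEmbedded H' := by
    refine StronglyEmbedded.of_forall_conj ?_ ?_ ?_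
    · intro he
      refine hSE.1 (eq_top_iff.2 fun y _ => Subgroup.mem_subgroupOf.2 ((hmemH' y).1 ?_))
      rw [he]; exact Subgroup.mem_top _
    · have hmem : (⟨π z, ⟨z, hzX, rfl⟩⟩ : Xb) ∈ H' := (hfixa z).2 hzH
      have hz' : orderOf (⟨π z, ⟨z, hzX, rfl⟩⟩ : Xb) = 2 := by
        rw [Basic.invol_iff]
        refine ⟨Subtype.ext ?_, fun e => ?_⟩
        · show π z * π z = 1
          rw [← map_mul, Basic.invol_mul_self hz, map_one]
        · have := hker ⟨z, hzX⟩ (congrArg Subtype.val e)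
          rw [Subgroup.orderOf_mk, hz] at this
          exact Nat.not_even_iff_odd.2 this even_two
      exact even_iff_two_dvd.2 (hz' ▸ Subgroup.orderOf_dvd_natCard _ hmem)
    · intro p hp hp2 q hq
      obtain ⟨y, hy2, hyp⟩ := hlift p hp2
      obtain ⟨_, g, hgX, rfl⟩ := q
      have hyH : (y : G) ∈ H := (hfixa y).1 (by rw [← hπ, hyp]; exact hp)
      refine (hfixa g).2 (hset.fix _ (hall y hy2) hyH g ?_)
      refine (hfixa _).1 ?_
      rw [← hπ, map_mul, map_mul, map_inv, hyp]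
      exact hq
  have h2' : BenderSuzuki.TwoRank Xb := by
    obtain ⟨y, v, hy, hv, hne, hyy, hvv, hyv⟩ := h2
    have hinj : ∀ w : X, π (w : G) = 1 → w * w = 1 → w = 1 := fun w hw hww => by
      by_contra hw1
      have := hker w hw
      rw [Basic.invol_iff.2 ⟨hww, hw1⟩] at this
      exact Nat.not_even_iff_odd.2 this even_two
    let f : X →* Xb := (π.comp X.subtype).codRestrict Xb fun w => ⟨w, w.2, rfl⟩
    have hf : ∀ w, f w = 1 → π (w : G) = 1 := fun w e => congrArg Subtype.val e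
    refine ⟨f y, f v, fun e => hy (hinj y (hf y e) hyy), fun e => hv (hinj v (hf v e) hvv),
      fun e => hne ?_, ?_, ?_, ?_⟩
    · have h1 : f (y * v) = 1 := by
        rw [map_mul, e, ← map_mul, hvv, map_one]
      have h3 : y * v * (y * v) = 1 := by
        calc y * v * (y * v) = y * v * (v * y) := by rw [hyv]
          _ = y * (v * v) * y := by group
          _ = 1 := by rw [hvv, mul_one, hyy]
      exact (mul_eq_one_iff_eq_inv.1 (hinj _ (hf _ h1) h3)).trans (inv_eq_of_mul_eq_one_right hvv)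
    · rw [← map_mul, hyy, map_one]
    · rw [← map_mul, hvv, map_one]
    · rw [← map_mul, hyv, map_mul]
  have hcore : H'.normalCore = ⊥ := by
    rw [eq_bot_iff]
    intro p hp
    refine Subgroup.mem_bot.2 (FaithfulSMul.eq_of_smul_eq_smul (α := G ⧸ H) fun c => ?_)
    obtain ⟨q, rfl⟩ := MulAction.exists_smul_eq Xb a c
    have h1 : q⁻¹ * p * q⁻¹⁻¹ ∈ H' :=
      H'.normalCore_le ((Subgroup.normalCore_normal H').conj_mem p hp q⁻¹)
    have h3 : (q⁻¹ * p * q⁻¹⁻¹) • a = a := h1
    rw [inv_inv, mul_smul, mul_smul, inv_smul_eq_iff] at h3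
    rw [h3, one_smul]
  obtain ⟨t, Q, hyp, hgood⟩ := BenderConsumers23.good BenderOne.propPartOneFinal
    BenderSuzuki.propMain hSE' h2' hcore
  -- back to the action on `G/H`
  obtain ⟨f, hf, hfa⟩ : ∃ f : (Xb ⧸ H') ≃ G ⧸ H, (∀ (q : Xb) c, f (q • c) = q • f c) ∧
      f ((1 : Xb) : Xb ⧸ H') = a := by
    refine ⟨Equiv.ofBijective (Quotient.lift (fun q : Xb => q • a) ?_) ⟨?_, ?_⟩, ?_, ?_⟩
    · intro p q hpq
      have h1 : (p⁻¹ * q) • a = a := QuotientGroup.leftRel_apply.1 hpq
      rw [mul_smul, inv_smul_eq_iff] at h1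
      exact h1.symm
    · intro p q
      induction p using QuotientGroup.induction_on with | H p =>
      induction q using QuotientGroup.induction_on with | H q =>
      intro e
      refine QuotientGroup.eq.2 (show (p⁻¹ * q) • a = a from ?_)
      rw [mul_smul, inv_smul_eq_iff]
      exact e.symm
    · intro c
      obtain ⟨q, hq⟩ := MulAction.exists_smul_eq Xb a c
      exact ⟨(q : Xb ⧸ H'), hq⟩
    · intro q c
      induction c using QuotientGroup.induction_on with | H p =>
      exact mul_smul q p a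
    · show (1 : Xb) • a = a
      exact one_smul _ a
  have hsetup := setup_congr f hf hyp.setup
  rw [hfa] at hsetup
  have hstab : ∀ c, stabilizer Xb (f c) = stabilizer Xb c := fun c => by
    ext g
    simp [MulAction.mem_stabilizer_iff, ← hf]
  have hq : BenderSuzuki.qNum Xb a = BenderSuzuki.qNum Xb ((1 : Xb) : Xb ⧸ H') := by
    unfold BenderSuzuki.qNum BenderSuzuki.invs
    rw [← hfa, hstab]
  have htw : RankOne.Basic.twoStab Xb a t =
      RankOne.Basic.twoStab Xb ((1 : Xb) : Xb ⧸ H') t := by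
    show stabilizer Xb a ⊓ stabilizer Xb (t • a) = _
    rw [← hfa, ← hf, hstab, hstab]
  have hsmall : Regular.SmallShape a t Q := by
    intro hq4
    rw [hq] at hq4
    obtain ⟨hQp, L, -, -, -, -, hcase⟩ := hgood
    rcases hcase with ⟨hQc, -, -⟩ | ⟨hQc, -, -⟩ | ⟨hQc, -, hV, -⟩
    · left; rw [hQc, hq4]
    · right; left; rw [hQc, hq4]; norm_num
    · right; right
      refine ⟨by rw [hQc, hq4]; norm_num, ?_⟩
      rw [hq4] at hV
      replace hV : Nat.card ↥(L ⊓ BenderSuzuki.vGrp ((1 : Xb) : Xb ⧸ H') t : Subgroup Xb) = 5 := by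
        have e : Nat.gcd 3 (4 + 1) = 1 := by decide
        rw [e, mul_one] at hV
        exact hV
      haveI : Fact (Nat.Prime 5) := ⟨by norm_num⟩
      obtain ⟨f5, hf5⟩ := exists_prime_orderOf_dvd_card'
        (G := ↥(L ⊓ BenderSuzuki.vGrp ((1 : Xb) : Xb ⧸ H') t : Subgroup Xb)) 5 hV.symm.dvd
      refine ⟨f5, ?_, by rw [Subgroup.orderOf_coe, hf5]⟩
      rw [htw]
      exact f5.2.2.1
  have hctx : Regular.Ctx (G ⧸ N) Xb Tb Sb a t Q := by
    refine ⟨hsetup, h2', hgood.1, hsmall, hTfix, hclosed, ?_, ?_⟩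
    · rintro _ ⟨s, hs, rfl⟩ hne c hc
      exact hsemi s hs (fun e => hne (by rw [e, map_one])) c hc
    · intro p hp hpT
      obtain ⟨y, hy2, hyp'⟩ := hlift p hp
      rw [← hyp'] at hpT ⊢
      exact himage _ (hall y hy2).2 hpT
  have hle := Regular.le_socle hctx
  intro s hs
  obtain ⟨x, hx, hxs⟩ := hle (⟨s, hs, rfl⟩ : π s ∈ Sb)
  have h3 : x⁻¹ * s ∈ N := by rw [← hπ1, map_mul, map_inv, hxs, inv_mul_cancel]
  simpa using mul_mem hx (Subgroup.mem_inf.1 h3).1

end Cfsg.Agent.Lib.Crit59.Socle
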