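import Cfsg.Agent.Lib.Crit59.Socle
import Cfsg.Agent.Lib.ZStar.UniqueCase
import Cfsg.Prelude.Def_Local

/-!
# Tightly embedded subgroups with odd intersections with the normaliser of a conjugate

A Sylow `2`-subgroup `S = T ∩ Q` of such a subgroup `Q` is strongly closed in `T` and `N(Q)`
contains the centralisers of its involutions, so the strongly closed case applies.
-/

set_option autoImplicit false
set_option linter.style.haveILetI false

universe u

namespace Cfsg.Agent.Lib.Crit59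

open Cfsg.Agent.Lib.Involutions

variable {G : Type u} [Group G] [Finite G]

/-- Without two commuting involutions the group generated by the members has a Sylow `2`-subgroup
of order two. -/
theorem inf_le_pair (T : Sylow 2 G) {X : Subgroup G}
    (h2 : ¬ BenderSuzuki.TwoRank ↥X)
    (hconj : ∀ x y : X, orderOf x = 2 → orderOf y = 2 → IsConj x y)
    (hgen : X = Subgroup.closure {x : G | x ∈ X ∧ orderOf x = 2}) {z : G} (hz : orderOf z = 2)
    (hzX : z ∈ X) (hzT : z ∈ (T : Subgroup G)) :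
    ∀ x ∈ (T : Subgroup G) ⊓ X, x = 1 ∨ x = z := by
  set z' : X := ⟨z, hzX⟩ with hz'def
  have hz' : orderOf z' = 2 := by rw [hz'def, Subgroup.orderOf_mk, hz]
  have hiso : ZStar.Reduction.Iso z' := by
    refine ⟨hz', fun g => ?_⟩
    rw [← Nat.not_even_iff_odd]
    intro hev
    set e : X := g * z' * g⁻¹ with he
    have hzz := Basic.invol_mul_self hz'
    have he2 : orderOf e = 2 := (Basic.orderOf_conj_eq g z').trans hz'
    have hr : z' * g * z'⁻¹ * g⁻¹ = z' * e := by
      rw [he, Basic.invol_inv hz']; group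
    rw [hr] at hev
    set r := z' * e with hrdef
    set w := r ^ (orderOf r / 2) with hwdef
    have hw : orderOf w = 2 := by
      rw [hwdef, orderOf_pow_orderOf_div (orderOf_pos r).ne' (even_iff_two_dvd.1 hev)]
    have hww := Basic.invol_mul_self hw
    have hinvr : z' * r * z'⁻¹ = r⁻¹ := by
      rw [hrdef, mul_inv_rev, Basic.invol_inv hz', Basic.invol_inv he2, ← mul_assoc z' z' e, hzz,
        one_mul]
    have hcw : z' * w = w * z' := by
      refine mul_inv_eq_iff_eq_mul.1 ?_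
      rw [hwdef, ← conj_pow, hinvr, inv_pow, ← hwdef, Basic.invol_inv hw]
    have hwz : w = z' := by
      by_contra hne
      exact h2 ⟨z', w, Basic.invol_ne_one hz', Basic.invol_ne_one hw, fun h => hne h.symm, hzz, hww,
        hcw⟩
    have hcr : z' * r = r * z' := by
      rw [← hwz, hwdef]
      exact (Commute.pow_self r _).eq
    have hrr : r * r = 1 := by
      have h3 : r = r⁻¹ := by rw [← hinvr, hcr, mul_inv_cancel_right]
      calc r * r = r * r⁻¹ := by rw [← h3]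
        _ = 1 := mul_inv_cancel r
    -- then `z'` and `e` commute, so they are equal
    have hce : z' * e = e * z' := by
      calc z' * e = (z' * e)⁻¹ := by rw [← hrdef]; exact (inv_eq_of_mul_eq_one_right hrr).symm
        _ = e * z' := by rw [mul_inv_rev, Basic.invol_inv hz', Basic.invol_inv he2]
    have hez : e = z' := by
      by_contra hne
      exact h2 ⟨z', e, Basic.invol_ne_one hz', Basic.invol_ne_one he2, fun h => hne h.symm, hzz,
        Basic.invol_mul_self he2, hce⟩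
    have h1r : r = 1 := by rw [hrdef, hez, hzz]
    rw [h1r, orderOf_one] at hev
    exact absurd hev (by decide)
  obtain ⟨N, hNn, hNodd, hN⟩ := ZStar.UniqueCase.zcentral_of_iso hiso
  haveI := hNn
  -- modulo `N` every involution is `z`
  have hinv : ∀ y : X, orderOf y = 2 → QuotientGroup.mk' N y = QuotientGroup.mk' N z' := by
    intro y hy
    obtain ⟨g, hg⟩ := isConj_iff.1 (hconj z' y hz' hy)
    have h1 := hN g
    rw [← QuotientGroup.eq_one_iff, QuotientGroup.mk_mul, QuotientGroup.mk_mul,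
      QuotientGroup.mk_mul, QuotientGroup.mk_inv, QuotientGroup.mk_inv, mul_inv_eq_one,
      mul_inv_eq_iff_eq_mul] at h1
    show (y : X ⧸ N) = z'
    rw [← hg, QuotientGroup.mk_mul, QuotientGroup.mk_mul, QuotientGroup.mk_inv, ← h1]
    exact mul_inv_cancel_right _ _
  set U : Subgroup (X ⧸ N) := Subgroup.zpowers (QuotientGroup.mk' N z') with hU
  have hall : ∀ y : X, QuotientGroup.mk' N y ∈ U := by
    have hle : X ≤ (U.comap (QuotientGroup.mk' N)).map X.subtype := by
      conv_lhs => rw [hgen]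
      rw [Subgroup.closure_le]
      rintro x ⟨hx, hx2⟩
      refine ⟨⟨x, hx⟩, ?_, rfl⟩
      show QuotientGroup.mk' N ⟨x, hx⟩ ∈ U
      rw [hinv _ ((Subgroup.orderOf_mk x hx).trans hx2)]
      exact Subgroup.mem_zpowers _
    intro y
    obtain ⟨y', hy', hyy⟩ := hle y.2
    obtain rfl : y' = y := Subtype.ext hyy
    exact hy'
  have hp : IsPGroup 2 ↥((T : Subgroup G) ⊓ X) := T.2.to_le inf_le_left
  have hone : ∀ v : X, (v : G) ∈ (T : Subgroup G) → QuotientGroup.mk' N v = 1 → v = 1 := by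
    intro v hvT hv
    obtain ⟨j, hj⟩ := IsPGroup.iff_orderOf.1 T.2 ⟨v, hvT⟩
    rw [Subgroup.orderOf_mk, Subgroup.orderOf_coe] at hj
    have h1 : orderOf v ∣ Nat.card N :=
      Subgroup.orderOf_dvd_natCard _ ((QuotientGroup.eq_one_iff v).1 hv)
    rw [hj] at h1
    rcases j with _ | j
    · exact orderOf_eq_one_iff.1 (by rw [hj, pow_zero])
    · exact absurd (even_iff_two_dvd.2 ((dvd_pow_self 2 (Nat.succ_ne_zero j)).trans h1))
        (Nat.not_even_iff_odd.2 hNodd)
  rintro x ⟨hxT, hxX⟩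
  obtain ⟨k, hk⟩ := Subgroup.mem_zpowers_iff.1 (hall ⟨x, hxX⟩)
  rcases Int.even_or_odd k with ⟨i, hi⟩ | ⟨i, hi⟩
  · left
    refine congrArg Subtype.val (hone ⟨x, hxX⟩ hxT ?_)
    rw [← hk, hi, ← two_mul, zpow_mul, zpow_two, ← map_mul, Basic.invol_mul_self hz', map_one,
      one_zpow]
  · right
    have h1 : QuotientGroup.mk' N (z' * ⟨x, hxX⟩) = 1 := by
      rw [map_mul, ← hk, hi, zpow_add, zpow_mul, zpow_two, ← map_mul, Basic.invol_mul_self hz',
        map_one, one_zpow, one_mul, zpow_one, ← map_mul, Basic.invol_mul_self hz', map_one]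
    have h3 := congrArg Subtype.val (hone (z' * ⟨x, hxX⟩) (mul_mem hzT hxT) h1)
    exact (eq_inv_of_mul_eq_one_right h3).trans (Basic.invol_inv hz)

/-- An element of odd index modulo a normal subgroup: squares trivial means inside. -/
theorem mem_of_sq {K X Q : Subgroup G} [X.Normal] (hodd : ∀ q ∈ Q, ∃ m : ℕ, Odd m ∧ q ^ m ∈ X)
    (hK : ∀ k ∈ K, ∃ x ∈ X, ∃ q ∈ Q, k = x * q) {t : G} (ht : t ∈ K) (h2 : t * t = 1) : t ∈ X := by
  obtain ⟨x, hx, q, hq, rfl⟩ := hK t ht
  obtain ⟨m, hm, hqm⟩ := hodd q hq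
  have h1 : ((x * q : G) : G ⧸ X) = (q : G ⧸ X) := by
    rw [QuotientGroup.mk_mul, (QuotientGroup.eq_one_iff x).2 hx, one_mul]
  have h3 : (q : G ⧸ X) ^ m = 1 := by
    rw [← QuotientGroup.mk_pow, (QuotientGroup.eq_one_iff _).2 hqm]
  have h4 : (q : G ⧸ X) ^ 2 = 1 := by
    rw [← h1, pow_two, ← QuotientGroup.mk_mul, h2, QuotientGroup.mk_one]
  obtain ⟨k, rfl⟩ := hm
  rw [pow_succ, pow_mul, h4, one_pow, one_mul] at h3
  exact (QuotientGroup.eq_one_iff _).1 (h1.trans h3)

/-- The conclusion of S1911. -/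
theorem row1911 (hcrit : CritProp.{u}) (Q : Subgroup G) (hQ : Cfsg.IsTightlyEmbedded Q)
    (hodd : ∀ g : G, g ∉ Subgroup.normalizer (Q : Set G) →
      Odd (Nat.card ↥(Q.map (MulAut.conj g).toMonoidHom ⊓ Subgroup.normalizer (Q : Set G)))) :
    Q.Normal ∨ Cfsg.IsStronglyEmbedded
      ((Subgroup.normalizer (Q : Set G)).subgroupOf (Subgroup.normalClosure (Q : Set G))) := by
  classical
  haveI : Fact (Nat.Prime 2) := ⟨Nat.prime_two⟩
  set N := Subgroup.normalizer (Q : Set G) with hNd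
  by_cases hn : N = ⊤
  · exact Or.inl (Subgroup.normalizer_eq_top_iff.1 hn)
  right
  have hQN : Q ≤ N := Subgroup.le_normalizer
  -- an element of even order of `Q` pushed into `N` comes from `N`
  have key : ∀ g x : G, x ∈ Q → Even (orderOf x) → g * x * g⁻¹ ∈ N → g ∈ N := by
    intro g x hx hev hg
    by_contra hgN
    have hy : g * x * g⁻¹ ∈ Q.map (MulAut.conj g).toMonoidHom ⊓ N :=
      Subgroup.mem_inf.2 ⟨⟨x, hx, rfl⟩, hg⟩
    have hd := orderOf_dvd_natCard (⟨_, hy⟩ : ↥(Q.map (MulAut.conj g).toMonoidHom ⊓ N))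
    rw [Subgroup.orderOf_mk, Basic.orderOf_conj_eq] at hd
    exact Nat.not_odd_iff_even.2 hev ((hodd g hgN).of_dvd_nat hd)
  obtain ⟨⟨z, hzQ⟩, hz⟩ := Basic.exists_invol (G := ↥Q) hQ.1
  rw [Subgroup.orderOf_mk] at hz
  have hzev : Even (orderOf z) := by rw [hz]; exact even_two
  -- a Sylow subgroup of `G` inside `N`
  obtain ⟨R, hR⟩ := (IsPGroup.of_card (n := 1) (p := 2) (G := ↥(Subgroup.zpowers (⟨z, hQN hzQ⟩ : N)))
    (by rw [Nat.card_zpowers, Subgroup.orderOf_mk, hz, pow_one])).exists_le_sylow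
  obtain ⟨T, hT⟩ := (R.2.map N.subtype).exists_le_sylow
  have hzT : z ∈ (T : Subgroup G) :=
    hT ⟨⟨z, hQN hzQ⟩, hR (Subgroup.mem_zpowers _), rfl⟩
  have hTN : (T : Subgroup G) ≤ N := by
    set U : Subgroup ↥(T : Subgroup G) := N.subgroupOf (T : Subgroup G) with hU
    by_contra hne
    have hUtop : U ≠ ⊤ := fun h => hne (Subgroup.subgroupOf_eq_top.1 h)
    haveI : Group.IsNilpotent ↥(T : Subgroup G) := T.2.isNilpotent
    obtain ⟨n, hnn, hnU⟩ := SetLike.exists_of_lt
      (Group.normalizerCondition_of_isNilpotent U (lt_top_iff_ne_top.2 hUtop))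
    refine hnU (Subgroup.mem_subgroupOf.2 (key _ z hzQ hzev ?_))
    have hzU : (⟨z, hzT⟩ : ↥(T : Subgroup G)) ∈ U := Subgroup.mem_subgroupOf.2 (hQN hzQ)
    exact Subgroup.mem_subgroupOf.1 ((Subgroup.mem_normalizer_iff.1 hnn _).1 hzU)
  have hNT : Subgroup.normalizer ((T : Subgroup G) : Set G) ≤ N := fun n hn' =>
    key n z hzQ hzev (hTN ((Subgroup.mem_normalizer_iff.1 hn' z).1 hzT))
  set S : Subgroup G := (T : Subgroup G) ⊓ Q with hS
  have hev : ∀ x ∈ S, x ≠ 1 → Even (orderOf x) := by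
    intro x hx hx1
    obtain ⟨k, hk⟩ := IsPGroup.iff_orderOf.1 T.2 ⟨x, hx.1⟩
    rw [Subgroup.orderOf_mk] at hk
    rw [hk]
    refine (Nat.even_pow' fun h => hx1 ?_).2 even_two
    rw [h, pow_zero, orderOf_eq_one_iff] at hk
    exact hk
  have hsc : Cfsg.IsStronglyClosed S (T : Subgroup G) := by
    refine ⟨inf_le_left, fun x hx g hg => ?_⟩
    by_cases hx1 : x = 1
    · subst hx1; simp
    · exact Subgroup.mem_inf.2 ⟨hg, (Subgroup.mem_normalizer_iff.1
        (key g x hx.2 (hev x hx hx1) (hTN hg)) x).1 hx.2⟩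
  have hS1 : S ≠ ⊥ := fun h =>
    Basic.invol_ne_one hz (Subgroup.mem_bot.1 (h ▸ Subgroup.mem_inf.2 ⟨hzT, hzQ⟩))
  have hC : ∀ s ∈ S, s ≠ 1 → Subgroup.centralizer ({s} : Set G) ≤ N := fun s hs h1 c hc =>
    key c s hs.2 (hev s hs h1) (by
      rw [Subgroup.mem_centralizer_singleton_iff.1 hc, mul_inv_cancel_right]; exact hQN hs.2)
  have hNS : Subgroup.normalizer (S : Set G) ≤ N := fun n hn' => key n z hzQ hzev
    (hQN ((Subgroup.mem_normalizer_iff.1 hn' z).1 (Subgroup.mem_inf.2 ⟨hzT, hzQ⟩)).2)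
  have hC2 : ∀ s ∈ S, orderOf s = 2 → Subgroup.centralizer ({s} : Set G) ≤ N :=
    fun s hs h => hC s hs (Basic.invol_ne_one h)
  have hset := setting_closed T hsc hC2 hNT hS1 hn
  have hX := main_closed T hsc hC2 hNT hcrit hS1 hn
  set X := Subgroup.closure (invClosure S) with hXd
  set K := Subgroup.normalClosure (Q : Set G) with hKd
  have hzD : z ∈ invClosure S := ⟨hz, 1, by
    rw [one_mul, inv_one, mul_one]; exact Subgroup.mem_inf.2 ⟨hzT, hzQ⟩⟩
  have hzX : z ∈ X := Subgroup.subset_closure hzD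
  have hXK : X ≤ K := by
    rw [hXd, Subgroup.closure_le]
    rintro d ⟨-, a, ha⟩
    have h1 : a * d * a⁻¹ ∈ K := Subgroup.le_normalClosure (H := Q) ha.2
    simpa [mul_assoc] using Subgroup.normalClosure_normal.conj_mem _ h1 a⁻¹
  haveI hXn : X.Normal := by
    refine ⟨fun x hx g => ?_⟩
    have := (Subgroup.closure_le (X.comap (MulAut.conj g).toMonoidHom)).2 ?_ hx
    · simpa using this
    intro y hy
    exact Subgroup.subset_closure (hset.conj y hy g)
  have hallX : ∀ x y : X, orderOf x = 2 → orderOf y = 2 → IsConj x y := fun x y hx hy =>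
    StronglyEmbedded.isConj_involutions hX hx hy
  -- Frattini
  have hfr : Subgroup.normalizer (((T : Subgroup G) ⊓ X : Subgroup G) : Set G) ⊔ X = ⊤ := by
    have hp0 : IsPGroup 2 ↥(((T : Subgroup G) ⊓ X : Subgroup G).subgroupOf X) :=
      IsPGroup.comap_subtype (T.2.to_le inf_le_left)
    obtain ⟨P, hP⟩ := hp0.exists_le_sylow
    obtain ⟨U, hU⟩ := (P.2.map X.subtype).exists_le_sylow
    obtain ⟨g, hg⟩ := MulAction.exists_smul_eq G U T
    have hle : (T : Subgroup G) ⊓ X ≤ (P : Subgroup ↥X).map X.subtype :=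
      fun y hy => ⟨⟨y, hy.2⟩, hP (Subgroup.mem_subgroupOf.2 hy), rfl⟩
    have hle2 : ((P : Subgroup ↥X).map X.subtype).map (MulAut.conj g).toMonoidHom ≤
        (T : Subgroup G) ⊓ X := by
      rintro _ ⟨y, hy, rfl⟩
      refine Subgroup.mem_inf.2 ⟨?_, hXn.conj_mem y ?_ g⟩
      · rw [← hg, Sylow.coe_subgroup_smul]
        exact Subgroup.smul_mem_pointwise_smul (a := MulAut.conj g) _ _ (hU hy)
      · obtain ⟨y', -, rfl⟩ := hy
        exact y'.2
    have he : (T : Subgroup G) ⊓ X = (P : Subgroup ↥X).map X.subtype := by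
      refine Subgroup.eq_of_le_of_card_ge hle ?_
      have hinj : Function.Injective (MulAut.conj g).toMonoidHom := (MulAut.conj g).injective
      have hcard := Nat.card_congr (((P : Subgroup ↥X).map X.subtype).equivMapOfInjective
        (MulAut.conj g).toMonoidHom hinj).toEquiv
      exact hcard.le.trans (Subgroup.card_le_of_le hle2)
    rw [he]
    exact Sylow.normalizer_sup_eq_top P
  have hGXN : ∀ g : G, ∃ x ∈ X, ∃ n ∈ N, g = x * n := by
    intro g
    have hg : g ∈ X ⊔ Subgroup.normalizer (((T : Subgroup G) ⊓ X : Subgroup G) : Set G) := by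
      rw [sup_comm, hfr]; exact Subgroup.mem_top g
    rw [Subgroup.mem_sup_of_normal_left] at hg
    obtain ⟨x, hx, n, hn', rfl⟩ := hg
    refine ⟨x, hx, n, key n z hzQ hzev (hTN ?_), rfl⟩
    exact ((Subgroup.mem_normalizer_iff.1 hn' z).1
      (Subgroup.mem_inf.2 ⟨hzT, hzX⟩)).1
  haveI hXQn : (X ⊔ Q).Normal := by
    refine ⟨fun y hy g => ?_⟩
    obtain ⟨x, hx, n, hn', rfl⟩ := hGXN g
    rw [Subgroup.mem_sup_of_normal_left] at hy ⊢
    obtain ⟨a, ha, q, hq, rfl⟩ := hy
    have hq' : n * q * n⁻¹ ∈ Q := (Subgroup.mem_normalizer_iff.1 hn' q).1 hq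
    refine ⟨x * (n * a * n⁻¹) * ((n * q * n⁻¹) * x⁻¹ * (n * q * n⁻¹)⁻¹),
      mul_mem (mul_mem hx ((inferInstance : X.Normal).conj_mem a ha n))
        ((inferInstance : X.Normal).conj_mem x⁻¹ (inv_mem hx) _), n * q * n⁻¹, hq', ?_⟩
    group
  have hKXQ : ∀ k ∈ K, ∃ x ∈ X, ∃ q ∈ Q, k = x * q := by
    intro k hk
    have := Subgroup.normalClosure_le_normal (N := X ⊔ Q) (fun y hy => Subgroup.mem_sup_right hy) hk
    rw [Subgroup.mem_sup_of_normal_left] at this
    obtain ⟨x, hx, q, hq, rfl⟩ := this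
    exact ⟨x, hx, q, hq, rfl⟩
  have hinQ : ∀ t ∈ Q, orderOf t = 2 → t ∈ X := by
    intro t ht ht2
    obtain ⟨h, hh⟩ := StronglyEmbedded.exists_conj_mem_of_sylow (G := N)
      (H := (T : Subgroup G).subgroupOf N) (P := T.subtype hTN) le_rfl (u := ⟨t, hQN ht⟩)
      ((orderOf_injective N.subtype N.subtype_injective _).symm.trans ht2)
    exact Subgroup.subset_closure ⟨ht2, (h : G), Subgroup.mem_inf.2
      ⟨hh, (Subgroup.mem_normalizer_iff.1 h.2 t).1 ht⟩⟩
  -- `Q` has odd order modulo `X` when `S ≤ X`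
  have hoddQ : S ≤ X → ∀ q ∈ Q, ∃ m : ℕ, Odd m ∧ q ^ m ∈ X := by
    intro hSX
    intro q hq
    obtain ⟨k, m, hm, hqm⟩ := Nat.exists_eq_two_pow_mul_odd (orderOf_pos q).ne'
    refine ⟨m, hm, ?_⟩
    have hp : IsPGroup 2 ↥(Subgroup.zpowers (q ^ m)) := by
      refine IsPGroup.of_card (n := k) ?_
      rw [Nat.card_zpowers, orderOf_pow' _ hm.pos.ne', hqm, Nat.gcd_eq_right (dvd_mul_left _ _),
        Nat.mul_div_cancel _ hm.pos]
    obtain ⟨U, hU⟩ := hp.exists_le_sylow
    have hqQ : q ^ m ∈ Q := pow_mem hq m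
    obtain ⟨g, hg⟩ := MulAction.exists_smul_eq G U T
    have hgq : g * q ^ m * g⁻¹ ∈ (T : Subgroup G) := by
      rw [← hg, Sylow.coe_subgroup_smul]
      exact Subgroup.smul_mem_pointwise_smul (a := MulAut.conj g) _ _
        (hU (Subgroup.mem_zpowers _))
    by_cases h1 : q ^ m = 1
    · rw [h1]; exact one_mem _
    have hevq : Even (orderOf (q ^ m)) := by
      obtain ⟨j, hj⟩ := IsPGroup.iff_orderOf.1 hp ⟨q ^ m, Subgroup.mem_zpowers _⟩
      rw [Subgroup.orderOf_mk] at hj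
      rw [hj]
      refine (Nat.even_pow' fun h => h1 ?_).2 even_two
      rwa [h, pow_zero, orderOf_eq_one_iff] at hj
    have hgN := key g _ hqQ hevq (hTN hgq)
    have h2 : g * q ^ m * g⁻¹ ∈ X :=
      hSX (Subgroup.mem_inf.2 ⟨hgq, (Subgroup.mem_normalizer_iff.1 hgN _).1 hqQ⟩)
    simpa [mul_assoc] using (inferInstance : X.Normal).conj_mem _ h2 g⁻¹
  -- every involution of `K ∩ N` lies in `X`
  have hmemX : ∀ t ∈ K, t ∈ N → orderOf t = 2 → t ∈ X := by
    intro t htK htN ht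
    by_cases h2 : BenderSuzuki.TwoRank ↥X
    · exact mem_of_sq (hoddQ (Socle.le_closure T hsc hC2 hNT hS1 hn hX h2)) hKXQ htK
        (Basic.invol_mul_self ht)
    refine hinQ t ?_ ht
    obtain ⟨x, hx, q, hq, rfl⟩ := hKXQ t htK
    refine mul_mem ?_ hq
    have hxN : x ∈ N := by simpa using mul_mem htN (inv_mem (hQN hq))
    have hgen : X = Subgroup.closure {y : G | y ∈ X ∧ orderOf y = 2} := le_antisymm
      ((Subgroup.closure_le _).2 fun y hy =>
        Subgroup.subset_closure ⟨Subgroup.subset_closure hy, hy.1⟩)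
      ((Subgroup.closure_le _).2 fun y hy => hy.1)
    have hP := inf_le_pair T h2 hallX hgen hz hzX hzT
    obtain ⟨k, m, hm, hxm⟩ := Nat.exists_eq_two_pow_mul_odd (orderOf_pos x).ne'
    have hx2 : x ^ m * x ^ m = 1 := by
      have hp : IsPGroup 2 ↥(Subgroup.zpowers (x ^ m)) := by
        refine IsPGroup.of_card (n := k) ?_
        rw [Nat.card_zpowers, orderOf_pow' _ hm.pos.ne', hxm, Nat.gcd_eq_right (dvd_mul_left _ _),
          Nat.mul_div_cancel _ hm.pos]
      obtain ⟨U, hU⟩ := hp.exists_le_sylow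
      obtain ⟨g, hg⟩ := MulAction.exists_smul_eq G U T
      have hgx : g * x ^ m * g⁻¹ ∈ (T : Subgroup G) := by
        rw [← hg, Sylow.coe_subgroup_smul]
        exact Subgroup.smul_mem_pointwise_smul (a := MulAut.conj g) _ _
          (hU (Subgroup.mem_zpowers _))
      have h3 : g * x ^ m * g⁻¹ * (g * x ^ m * g⁻¹) = 1 := by
        rcases hP _ ⟨hgx, hXn.conj_mem _ (pow_mem hx m) g⟩ with h | h
        · rw [h, one_mul]
        · rw [h, Basic.invol_mul_self hz]
      have h4 : g * (x ^ m * x ^ m) * g⁻¹ = 1 := by rw [← h3]; group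
      exact conj_eq_one_iff.1 h4
    have hxQ : x ^ m ∈ Q := by
      by_cases h1 : x ^ m = 1
      · rw [h1]; exact one_mem _
      have ho : orderOf (x ^ m) = 2 := Basic.invol_iff.2 ⟨hx2, h1⟩
      have hD : x ^ m ∈ invClosure S := by
        obtain ⟨a, ha⟩ := isConj_iff.1 (hallX ⟨z, hzX⟩ ⟨x ^ m, pow_mem hx m⟩
          ((Subgroup.orderOf_mk z hzX).trans hz) ((Subgroup.orderOf_mk _ _).trans ho))
        have ha' : (a : G) * z * (a : G)⁻¹ = x ^ m := congrArg Subtype.val ha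
        rw [← ha']
        exact hset.conj z hzD _
      obtain ⟨h, hhN, hhS⟩ := conj_into T hsc hNT hD (pow_mem hxN m)
      exact (Subgroup.mem_normalizer_iff.1 hhN _).2 hhS.2
    -- the image in `N / Q` has exponent two and odd exponent
    have hxx : x * x ∈ Q := by
      have h5 : x * q * (x * q) = x * x * ((x⁻¹ * q * x) * q) := by group
      have h6 : x⁻¹ * q * x ∈ Q := by
        simpa using (Subgroup.mem_normalizer_iff.1 (inv_mem hxN) q).1 hq
      have h7 : x * x * ((x⁻¹ * q * x) * q) ∈ Q := by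
        rw [← h5, Basic.invol_mul_self ht]; exact one_mem _
      exact (mul_mem_cancel_right (mul_mem h6 hq)).1 h7
    obtain ⟨j, rfl⟩ := hm
    rw [pow_succ, pow_mul] at hxQ
    exact (mul_mem_cancel_left (pow_mem (by rwa [pow_two]) j)).1 hxQ
  refine StronglyEmbedded.of_forall_conj (fun h => hX.1 (eq_top_iff.2 fun x _ => ?_)) ?_ ?_
  · have h1 : (⟨(x : G), hXK x.2⟩ : K) ∈ N.subgroupOf K := by rw [h]; exact Subgroup.mem_top _
    exact Subgroup.mem_subgroupOf.2 (Subgroup.mem_subgroupOf.1 h1)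
  · have hzK : z ∈ K := Subgroup.le_normalClosure hzQ
    have ho : orderOf (⟨⟨z, hzK⟩, Subgroup.mem_subgroupOf.2 (hQN hzQ)⟩ : N.subgroupOf K) = 2 := by
      rw [Subgroup.orderOf_mk, Subgroup.orderOf_mk, hz]
    exact even_iff_two_dvd.2 (ho ▸ orderOf_dvd_natCard _)
  · rintro ⟨t, htK⟩ htN ht ⟨g, hgK⟩ hg
    rw [Subgroup.mem_subgroupOf] at htN hg ⊢
    rw [Subgroup.orderOf_mk] at ht
    simp only [Subgroup.coe_mul, InvMemClass.coe_inv] at hg
    obtain ⟨x, hx, q, hq, rfl⟩ := hKXQ g hgK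
    have ht' : q * t * q⁻¹ ∈ N := mul_mem (mul_mem (hQN hq) htN) (inv_mem (hQN hq))
    have ht'2 : orderOf (q * t * q⁻¹) = 2 := (Basic.orderOf_conj_eq q t).trans ht
    have ht'X : q * t * q⁻¹ ∈ X := hmemX _
      (mul_mem (mul_mem (Subgroup.le_normalClosure (H := Q) hq) htK)
        (inv_mem (Subgroup.le_normalClosure (H := Q) hq))) ht' ht'2
    refine mul_mem ?_ (hQN hq)
    refine Subgroup.mem_subgroupOf.1 (StronglyEmbedded.mem_of_conj_mem hX
      (t := (⟨q * t * q⁻¹, ht'X⟩ : X)) (g := (⟨x, hx⟩ : X)) ?_ ?_ ?_)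
    · rw [Subgroup.orderOf_mk, ht'2]
    · exact Subgroup.mem_subgroupOf.2 ht'
    · refine Subgroup.mem_subgroupOf.2 ?_
      show x * (q * t * q⁻¹) * x⁻¹ ∈ N
      rwa [conj_conj]

end Cfsg.Agent.Lib.Crit59
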